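/-
helper45: geometry of the standard symplectic space `F^(2m)` needed for the automorphisms of
`PSp_2m(F)`: vectors with prescribed form values, perpendicular closure of a pair.
-/
import Cfsg.Agent.Lib.Helper13.SympGen
import Cfsg.Agent.Lib.Helper45.FTPG.Basic

set_option autoImplicit false

namespace Cfsg.Agent.Lib.Helper45.PSpAut

open Matrix Cfsg.Agent.Lib.Helper13 Cfsg.Agent.Lib.Helper45.FTPG

variable {m : ℕ} {F : Type*} [Field F]

/-- abbreviation for the form -/
local notation "ω" => Cfsg.sympForm _ _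

theorem exists_form_eq_one {v : Fin m ⊕ Fin m → F} (hv : v ≠ 0) :
    ∃ a : Fin m ⊕ Fin m → F, Cfsg.sympForm m F a v = 1 := by
  have h : ∃ a, Cfsg.sympForm m F v a ≠ 0 := by
    by_contra hcon
    push Not at hcon
    exact hv (sympForm_left_nondeg v hcon)
  obtain ⟨a, ha⟩ := h
  have ha' : Cfsg.sympForm m F a v ≠ 0 := by
    rw [sympForm_swap]
    exact neg_ne_zero.mpr ha
  refine ⟨(Cfsg.sympForm m F a v)⁻¹ • a, ?_⟩
  rw [sympForm_smul_left, inv_mul_cancel₀ ha']

/-- for independent `v`, `w` there is `x` with `ω(x, v) = 1` and `ω(x, w) = 0` -/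
theorem exists_form_one_zero {v w : Fin m ⊕ Fin m → F} (h : I2 (K := F) v w) :
    ∃ x : Fin m ⊕ Fin m → F, Cfsg.sympForm m F x v = 1 ∧ Cfsg.sympForm m F x w = 0 := by
  have hw : w ≠ 0 := h.right_ne_zero
  have hex : ∃ x, Cfsg.sympForm m F x w = 0 ∧ Cfsg.sympForm m F x v ≠ 0 := by
    by_contra hcon
    push Not at hcon
    obtain ⟨a, ha⟩ := exists_form_eq_one hw
    have h1 : ∀ x, Cfsg.sympForm m F x (v - Cfsg.sympForm m F a v • w) = 0 := by
      intro x
      have h2 := hcon (x - Cfsg.sympForm m F x w • a) (by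
        rw [sympForm_sub_left, sympForm_smul_left, ha, mul_one, sub_self])
      rw [sympForm_sub_left, sympForm_smul_left] at h2
      rw [sympForm_sub_right, sympForm_smul_right]
      linear_combination h2
    have h3 : v - Cfsg.sympForm m F a v • w = 0 := by
      apply sympForm_left_nondeg
      intro x
      rw [sympForm_swap, h1, neg_zero]
    have h4 := h 1 (-Cfsg.sympForm m F a v) (by rw [one_smul, neg_smul, ← sub_eq_add_neg, h3])
    exact one_ne_zero h4.1
  obtain ⟨x, hxw, hxv⟩ := hex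
  refine ⟨(Cfsg.sympForm m F x v)⁻¹ • x, ?_, ?_⟩
  · rw [sympForm_smul_left, inv_mul_cancel₀ hxv]
  · rw [sympForm_smul_left, hxw, mul_zero]

/-- two non-zero vectors have a common non-perpendicular vector -/
theorem exists_form_ne_zero_both {x x' : Fin m ⊕ Fin m → F} (hx : x ≠ 0) (hx' : x' ≠ 0) :
    ∃ y : Fin m ⊕ Fin m → F, Cfsg.sympForm m F y x ≠ 0 ∧ Cfsg.sympForm m F y x' ≠ 0 := by
  obtain ⟨a, ha⟩ := exists_form_eq_one hx
  obtain ⟨b, hb⟩ := exists_form_eq_one hx'
  by_cases h1 : Cfsg.sympForm m F a x' = 0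
  · by_cases h2 : Cfsg.sympForm m F b x = 0
    · refine ⟨a + b, ?_, ?_⟩
      · rw [sympForm_add_left, ha, h2, add_zero]; exact one_ne_zero
      · rw [sympForm_add_left, h1, hb, zero_add]; exact one_ne_zero
    · exact ⟨b, h2, by rw [hb]; exact one_ne_zero⟩
  · exact ⟨a, by rw [ha]; exact one_ne_zero, h1⟩

/-- the linear map `x ↦ (ω(x, u i))_i` -/
noncomputable def formMap {k : ℕ} (u : Fin k → (Fin m ⊕ Fin m → F)) :
    (Fin m ⊕ Fin m → F) →ₗ[F] (Fin k → F) where
  toFun x i := Cfsg.sympForm m F x (u i)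
  map_add' x y := by
    ext i
    exact sympForm_add_left x y (u i)
  map_smul' a x := by
    ext i
    exact sympForm_smul_left a x (u i)

/-- fewer than `2m` vectors have a common non-zero perpendicular vector -/
theorem exists_perp {k : ℕ} (hk : k < 2 * m) (u : Fin k → (Fin m ⊕ Fin m → F)) :
    ∃ x : Fin m ⊕ Fin m → F, x ≠ 0 ∧ ∀ i, Cfsg.sympForm m F x (u i) = 0 := by
  have h1 : LinearMap.ker (formMap u) ≠ ⊥ := by
    apply LinearMap.ker_ne_bot_of_finrank_lt
    rw [Module.finrank_fin_fun, Module.finrank_fintype_fun_eq_card, Fintype.card_sum,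
      Fintype.card_fin]
    omega
  obtain ⟨x, hx, hx0⟩ := (Submodule.ne_bot_iff _).mp h1
  refine ⟨x, hx0, fun i => ?_⟩
  have := congrFun (LinearMap.mem_ker.mp hx) i
  exact this

theorem exists_perp3 (hm : 2 ≤ m) (u₁ u₂ u₃ : Fin m ⊕ Fin m → F) :
    ∃ x : Fin m ⊕ Fin m → F, x ≠ 0 ∧ Cfsg.sympForm m F x u₁ = 0 ∧ Cfsg.sympForm m F x u₂ = 0 ∧
      Cfsg.sympForm m F x u₃ = 0 := by
  obtain ⟨x, hx, h⟩ := exists_perp (k := 3) (by omega) ![u₁, u₂, u₃]
  exact ⟨x, hx, h 0, h 1, h 2⟩

/-- a vector outside the span of two given ones -/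
theorem exists_not_sp2 (hm : 2 ≤ m) (u v : Fin m ⊕ Fin m → F) :
    ∃ w : Fin m ⊕ Fin m → F, ¬ Sp2 (K := F) u v w := by
  by_contra hcon
  push Not at hcon
  -- then `x ↦ (ω(x,u), ω(x,v))` is injective up to the form
  obtain ⟨x, hx, hxu, hxv, -⟩ := exists_perp3 hm u v 0
  apply hx
  apply sympForm_left_nondeg
  intro w
  obtain ⟨a, b, rfl⟩ := hcon w
  rw [sympForm_add_right, sympForm_smul_right, sympForm_smul_right, hxu, hxv, mul_zero, mul_zero,
    add_zero]

/-- the span of two vectors is the double perpendicular -/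
theorem sp2_iff_perp (x y z : Fin m ⊕ Fin m → F) :
    Sp2 (K := F) x y z ↔
      ∀ s : Fin m ⊕ Fin m → F, Cfsg.sympForm m F s x = 0 → Cfsg.sympForm m F s y = 0 →
        Cfsg.sympForm m F s z = 0 := by
  constructor
  · rintro ⟨a, b, rfl⟩ s hx hy
    rw [sympForm_add_right, sympForm_smul_right, sympForm_smul_right, hx, hy, mul_zero, mul_zero,
      add_zero]
  · intro h
    by_contra hz
    have hz' : z ∉ Submodule.span F ({x, y} : Set (Fin m ⊕ Fin m → F)) := by
      intro hmem
      rw [Submodule.mem_span_pair] at hmem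
      obtain ⟨a, b, hab⟩ := hmem
      exact hz ⟨a, b, hab.symm⟩
    obtain ⟨φ, hφz, hφ⟩ := Submodule.exists_dual_map_eq_bot_of_notMem hz' inferInstance
    -- represent `φ` by the form
    set s : Fin m ⊕ Fin m → F := ((sympBilin m F).toDual (sympBilin_nondegenerate m F)).symm φ
      with hs
    have hsφ : ∀ w, Cfsg.sympForm m F s w = φ w := by
      intro w
      have := LinearMap.BilinForm.apply_toDual_symm_apply (B := sympBilin m F)
        (hB := sympBilin_nondegenerate m F) φ w
      exact this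
    have hφx : φ x = 0 := by
      have : φ x ∈ (Submodule.span F ({x, y} : Set (Fin m ⊕ Fin m → F))).map φ :=
        Submodule.mem_map_of_mem (Submodule.subset_span (by simp))
      rw [hφ] at this
      exact this
    have hφy : φ y = 0 := by
      have : φ y ∈ (Submodule.span F ({x, y} : Set (Fin m ⊕ Fin m → F))).map φ :=
        Submodule.mem_map_of_mem (Submodule.subset_span (by simp))
      rw [hφ] at this
      exact this
    apply hφz
    rw [← hsφ]
    exact h s (by rw [hsφ, hφx]) (by rw [hsφ, hφy])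

end Cfsg.Agent.Lib.Helper45.PSpAut
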