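/-
helper45: symplectic transvections in `Sp_2m(F)` and their images in `PSp_2m(F)`: multiplication,
conjugation, and the group-theoretic characterisations of "same centre" and "perpendicular centres".
-/
import Cfsg.Agent.Lib.Helper45.PSpAut.Geom
import Cfsg.Agent.Lib.Helper5.SymplecticCenter
import Cfsg.Prelude.Def_Classical

set_option autoImplicit false

namespace Cfsg.Agent.Lib.Helper45.PSpAut

open Matrix Cfsg.Agent.Lib.Helper13 Cfsg.Agent.Lib.Helper45.FTPG

variable {m : ℕ} {F : Type*} [Field F]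

/-- extensionality for symplectic matrices through their action on vectors -/
theorem sp_ext {A B : Matrix.symplecticGroup (Fin m) F}
    (h : ∀ x : Fin m ⊕ Fin m → F, A.1 *ᵥ x = B.1 *ᵥ x) : A = B :=
  Subtype.ext (Matrix.ext_iff_mulVec.mpr h)

theorem sp_mul_mulVec (A B : Matrix.symplecticGroup (Fin m) F) (x : Fin m ⊕ Fin m → F) :
    (A * B).1 *ᵥ x = A.1 *ᵥ (B.1 *ᵥ x) := coe_mul_mulVec A B x

theorem sp_one_mulVec (x : Fin m ⊕ Fin m → F) :
    (1 : Matrix.symplecticGroup (Fin m) F).1 *ᵥ x = x := by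
  show (1 : Matrix (Fin m ⊕ Fin m) (Fin m ⊕ Fin m) F) *ᵥ x = x
  rw [Matrix.one_mulVec]

theorem sp_inv_mulVec_mulVec (A : Matrix.symplecticGroup (Fin m) F) (x : Fin m ⊕ Fin m → F) :
    (A⁻¹).1 *ᵥ (A.1 *ᵥ x) = x := by
  rw [← sp_mul_mulVec, inv_mul_cancel, sp_one_mulVec]

theorem sp_mulVec_inv_mulVec (A : Matrix.symplecticGroup (Fin m) F) (x : Fin m ⊕ Fin m → F) :
    A.1 *ᵥ ((A⁻¹).1 *ᵥ x) = x := by
  rw [← sp_mul_mulVec, mul_inv_cancel, sp_one_mulVec]

theorem sp_form (A : Matrix.symplecticGroup (Fin m) F) (x y : Fin m ⊕ Fin m → F) :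
    Cfsg.sympForm m F (A.1 *ᵥ x) (A.1 *ᵥ y) = Cfsg.sympForm m F x y :=
  sympForm_mulVec_of_mem A.2 x y

theorem sp_form_inv_left (A : Matrix.symplecticGroup (Fin m) F) (x y : Fin m ⊕ Fin m → F) :
    Cfsg.sympForm m F ((A⁻¹).1 *ᵥ x) y = Cfsg.sympForm m F x (A.1 *ᵥ y) := by
  rw [← sp_form A, sp_mulVec_inv_mulVec]

theorem sp_mulVec_ne_zero (A : Matrix.symplecticGroup (Fin m) F) {x : Fin m ⊕ Fin m → F}
    (hx : x ≠ 0) : A.1 *ᵥ x ≠ 0 := by
  intro h
  apply hx
  rw [← sp_inv_mulVec_mulVec A x, h, Matrix.mulVec_zero]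

theorem tvElt_mulVec (v : Fin m ⊕ Fin m → F) (c : F) (x : Fin m ⊕ Fin m → F) :
    (tvElt v c).1 *ᵥ x = x + (c * Cfsg.sympForm m F x v) • v :=
  sympTransvection_mulVec v c x

theorem tvElt_mulVec_of_perp {v x : Fin m ⊕ Fin m → F} (h : Cfsg.sympForm m F x v = 0) (c : F) :
    (tvElt v c).1 *ᵥ x = x := by
  rw [tvElt_mulVec, h, mul_zero, zero_smul, add_zero]

theorem tvElt_mul (v : Fin m ⊕ Fin m → F) (c d : F) : tvElt v c * tvElt v d = tvElt v (c + d) :=
  Subtype.ext (sympTransvection_mul v c d)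

theorem tvElt_zero (v : Fin m ⊕ Fin m → F) : tvElt v (0 : F) = 1 := by
  apply sp_ext
  intro x
  rw [tvElt_mulVec, zero_mul, zero_smul, add_zero, sp_one_mulVec]

theorem tvElt_zero_left (c : F) : tvElt (0 : Fin m ⊕ Fin m → F) c = 1 := by
  apply sp_ext
  intro x
  rw [tvElt_mulVec, smul_zero, add_zero, sp_one_mulVec]

theorem tvElt_inv (v : Fin m ⊕ Fin m → F) (c : F) : (tvElt v c)⁻¹ = tvElt v (-c) := by
  rw [inv_eq_iff_mul_eq_one, tvElt_mul, add_neg_cancel, tvElt_zero]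

theorem tvElt_smul (a : F) (v : Fin m ⊕ Fin m → F) (c : F) :
    tvElt (a • v) c = tvElt v (c * a ^ 2) := by
  apply sp_ext
  intro x
  rw [tvElt_mulVec, tvElt_mulVec, sympForm_smul_right, smul_smul]
  congr 2
  ring

theorem conj_tvElt (s : Matrix.symplecticGroup (Fin m) F) (v : Fin m ⊕ Fin m → F) (c : F) :
    s * tvElt v c * s⁻¹ = tvElt (s.1 *ᵥ v) c := by
  apply sp_ext
  intro x
  rw [sp_mul_mulVec, sp_mul_mulVec, tvElt_mulVec, tvElt_mulVec, Matrix.mulVec_add,
    sp_mulVec_inv_mulVec, Matrix.mulVec_smul, sp_form_inv_left]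

/-- commuting transvections -/
theorem tvElt_comm_of_perp {v w : Fin m ⊕ Fin m → F} (h : Cfsg.sympForm m F v w = 0) (c d : F) :
    tvElt v c * tvElt w d = tvElt w d * tvElt v c := by
  have h' : Cfsg.sympForm m F w v = 0 := by rw [sympForm_swap, h, neg_zero]
  apply sp_ext
  intro x
  rw [sp_mul_mulVec, sp_mul_mulVec, tvElt_mulVec, tvElt_mulVec, tvElt_mulVec, tvElt_mulVec]
  simp only [sympForm_add_left, sympForm_smul_left, h, h', mul_zero, add_zero]
  abel

/-! ### The centre and the quotient -/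

theorem mem_center_of_smul {h : Matrix.symplecticGroup (Fin m) F} {a : F}
    (ha : ∀ x : Fin m ⊕ Fin m → F, h.1 *ᵥ x = a • x) :
    h ∈ Subgroup.center (Matrix.symplecticGroup (Fin m) F) := by
  rw [Subgroup.mem_center_iff]
  intro g
  apply sp_ext
  intro x
  rw [sp_mul_mulVec, sp_mul_mulVec, ha, ha, Matrix.mulVec_smul]

/-- two symplectic matrices with the same image in `PSp` differ by a sign -/
theorem exists_sign_of_mk_eq (hm : 1 ≤ m) {s s' : Matrix.symplecticGroup (Fin m) F}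
    (h : (QuotientGroup.mk s : Cfsg.PSp m F) = QuotientGroup.mk s') :
    ∃ ε : F, (ε = 1 ∨ ε = -1) ∧ ∀ x : Fin m ⊕ Fin m → F, s'.1 *ᵥ x = ε • s.1 *ᵥ x := by
  have : Nonempty (Fin m) := ⟨⟨0, by omega⟩⟩
  rw [QuotientGroup.eq] at h
  have h1 := Cfsg.Agent.Lib.Helper5.symplecticGroup_center_eq_one_or_neg_one _ h
  have h2 : ∀ x : Fin m ⊕ Fin m → F, s'.1 *ᵥ x = s.1 *ᵥ ((s⁻¹ * s').1 *ᵥ x) := by
    intro x
    rw [← sp_mul_mulVec, mul_inv_cancel_left]
  rcases h1 with h1 | h1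
  · refine ⟨1, Or.inl rfl, fun x => ?_⟩
    rw [h2, h1, Matrix.one_mulVec, one_smul]
  · refine ⟨-1, Or.inr rfl, fun x => ?_⟩
    rw [h2, h1, Matrix.neg_mulVec, Matrix.one_mulVec, Matrix.mulVec_neg, neg_smul, one_smul]

/-- **Core lemma**: two symplectic matrices with the same image in `PSp` and a common non-zero
fixed vector are equal. -/
theorem eq_of_mk_eq_of_fixed (hm : 1 ≤ m) {s s' : Matrix.symplecticGroup (Fin m) F}
    (h : (QuotientGroup.mk s : Cfsg.PSp m F) = QuotientGroup.mk s')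
    {x₀ : Fin m ⊕ Fin m → F} (hx₀ : x₀ ≠ 0) (h1 : s.1 *ᵥ x₀ = x₀) (h2 : s'.1 *ᵥ x₀ = x₀) :
    s = s' := by
  obtain ⟨ε, -, hε⟩ := exists_sign_of_mk_eq hm h
  have h3 := hε x₀
  rw [h1, h2] at h3
  have h4 : (1 - ε) • x₀ = 0 := by
    rw [sub_smul, one_smul, ← h3, sub_self]
  rcases smul_eq_zero.mp h4 with h5 | h5
  · have hε1 : ε = 1 := (sub_eq_zero.mp h5).symm
    apply sp_ext
    intro x
    rw [hε x, hε1, one_smul]
  · exact absurd h5 hx₀

/-! ### Images of transvections in `PSp` -/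

/-- the image of a symplectic transvection in `PSp` -/
noncomputable def tbar (v : Fin m ⊕ Fin m → F) (c : F) : Cfsg.PSp m F :=
  QuotientGroup.mk (tvElt v c)

/-- `x` is the image of a non-trivial symplectic transvection -/
def IsT (x : Cfsg.PSp m F) : Prop :=
  ∃ (v : Fin m ⊕ Fin m → F) (c : F), v ≠ 0 ∧ c ≠ 0 ∧ x = tbar v c

theorem tbar_mul (v : Fin m ⊕ Fin m → F) (c d : F) : tbar v c * tbar v d = tbar v (c + d) := by
  unfold tbar
  rw [← QuotientGroup.mk_mul, tvElt_mul]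

theorem tbar_zero (v : Fin m ⊕ Fin m → F) : tbar v (0 : F) = 1 := by
  unfold tbar
  rw [tvElt_zero]
  rfl

theorem tbar_inv (v : Fin m ⊕ Fin m → F) (c : F) : (tbar v c)⁻¹ = tbar v (-c) := by
  unfold tbar
  rw [← QuotientGroup.mk_inv, tvElt_inv]

theorem tbar_smul (a : F) (v : Fin m ⊕ Fin m → F) (c : F) : tbar (a • v) c = tbar v (c * a ^ 2) := by
  unfold tbar
  rw [tvElt_smul]

theorem conj_tbar (s : Matrix.symplecticGroup (Fin m) F) (v : Fin m ⊕ Fin m → F) (c : F) :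
    (QuotientGroup.mk s : Cfsg.PSp m F) * tbar v c * (QuotientGroup.mk s)⁻¹ = tbar (s.1 *ᵥ v) c := by
  unfold tbar
  rw [← QuotientGroup.mk_inv, ← QuotientGroup.mk_mul, ← QuotientGroup.mk_mul, conj_tvElt]

theorem tbar_of_par {v w : Fin m ⊕ Fin m → F} (h : Par (K := F) w v) {d : F} (hd : d ≠ 0) :
    ∃ d' : F, d' ≠ 0 ∧ tbar w d = tbar v d' := by
  obtain ⟨a, ha, rfl⟩ := h
  exact ⟨d * a ^ 2, mul_ne_zero hd (pow_ne_zero 2 ha), tbar_smul a v d⟩

theorem par_of_not_I2 {v w : Fin m ⊕ Fin m → F} (hv : v ≠ 0) (hw : w ≠ 0) (h : ¬ I2 (K := F) v w) :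
    Par (K := F) w v := by
  obtain ⟨a, rfl⟩ := exists_smul_of_not_I2 hv h
  refine ⟨a, ?_, rfl⟩
  rintro rfl
  exact hw (zero_smul F v)

/-- a product of two transvections with independent centres is not a transvection or trivial -/
theorem not_I2_of_tbar_mul (hm : 2 ≤ m) {v w u : Fin m ⊕ Fin m → F} {c d e : F}
    (hc : c ≠ 0) (hd : d ≠ 0) (h : tbar v c * tbar w d = tbar u e) : ¬ I2 (K := F) v w := by
  intro hI
  obtain ⟨x₀, hx₀, h1, h2, h3⟩ := exists_perp3 hm v w u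
  have heq : tvElt v c * tvElt w d = tvElt u e := by
    apply eq_of_mk_eq_of_fixed (by omega) h hx₀
    · rw [sp_mul_mulVec, tvElt_mulVec_of_perp h2, tvElt_mulVec_of_perp h1]
    · rw [tvElt_mulVec_of_perp h3]
  have key : ∀ x, (d * Cfsg.sympForm m F x w) • w + (c * (Cfsg.sympForm m F x v +
      d * Cfsg.sympForm m F x w * Cfsg.sympForm m F w v)) • v =
      (e * Cfsg.sympForm m F x u) • u := by
    intro x
    have := congrArg (fun s : Matrix.symplecticGroup (Fin m) F => s.1 *ᵥ x) heq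
    simp only [sp_mul_mulVec, tvElt_mulVec, sympForm_add_left, sympForm_smul_left] at this
    rw [add_assoc, add_right_inj] at this
    exact this
  obtain ⟨x₁, hx₁v, hx₁w⟩ := exists_form_one_zero hI
  obtain ⟨x₂, hx₂w, hx₂v⟩ := exists_form_one_zero hI.symm
  have k1 := key x₁
  rw [hx₁w, hx₁v, mul_zero, zero_smul, zero_add, zero_mul, add_zero, mul_one] at k1
  have k2 := key x₂
  rw [hx₂w, hx₂v, mul_one, zero_add] at k2
  -- `u` is a multiple of `v`, so `w` is a multiple of `v`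
  have he1 : e * Cfsg.sympForm m F x₁ u ≠ 0 := by
    intro h0
    rw [h0, zero_smul] at k1
    exact smul_ne_zero hc hI.left_ne_zero k1
  have hu : u = ((e * Cfsg.sympForm m F x₁ u)⁻¹ * c) • v := by
    rw [mul_smul, k1, smul_smul, inv_mul_cancel₀ he1, one_smul]
  rw [hu, smul_smul] at k2
  have h5 := hI (c * (d * Cfsg.sympForm m F w v) -
    e * Cfsg.sympForm m F x₂ (((e * Cfsg.sympForm m F x₁ u)⁻¹ * c) • v) *
      ((e * Cfsg.sympForm m F x₁ u)⁻¹ * c)) d (by
    rw [sub_smul, ← k2]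
    abel)
  exact hd h5.2

theorem tbar_ne_one (hm : 2 ≤ m) {v : Fin m ⊕ Fin m → F} {c : F} (hv : v ≠ 0) (hc : c ≠ 0) :
    tbar v c ≠ 1 := by
  intro h
  obtain ⟨x₀, hx₀, h1, -, -⟩ := exists_perp3 hm v 0 0
  have heq : tvElt v c = 1 := by
    apply eq_of_mk_eq_of_fixed (by omega) h hx₀
    · rw [tvElt_mulVec_of_perp h1]
    · exact sp_one_mulVec x₀
  obtain ⟨a, ha⟩ := exists_form_eq_one hv
  have := congrArg (fun s : Matrix.symplecticGroup (Fin m) F => s.1 *ᵥ a) heq
  simp only [tvElt_mulVec, sp_one_mulVec, ha, mul_one] at this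
  rw [add_eq_left] at this
  exact smul_ne_zero hc hv this

theorem IsT.ne_one (hm : 2 ≤ m) {x : Cfsg.PSp m F} (hx : IsT x) : x ≠ 1 := by
  obtain ⟨v, c, hv, hc, rfl⟩ := hx
  exact tbar_ne_one hm hv hc

/-- equal transvection images have proportional centres -/
theorem par_of_tbar_eq (hm : 2 ≤ m) {v w : Fin m ⊕ Fin m → F} {c d : F} (hv : v ≠ 0) (hw : w ≠ 0)
    (hc : c ≠ 0) (hd : d ≠ 0) (h : tbar v c = tbar w d) : Par (K := F) w v := by
  apply par_of_not_I2 hv hw
  apply not_I2_of_tbar_mul hm hc hd (u := v) (e := c + c)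
  rw [← h, tbar_mul]

/-- transvection images commute iff their centres are perpendicular -/
theorem tbar_comm_iff (hm : 2 ≤ m) {v w : Fin m ⊕ Fin m → F} {c d : F} (hc : c ≠ 0) (hd : d ≠ 0) :
    tbar v c * tbar w d = tbar w d * tbar v c ↔ Cfsg.sympForm m F v w = 0 := by
  constructor
  · intro h
    by_contra hvw
    obtain ⟨x₀, hx₀, h1, h2, -⟩ := exists_perp3 hm v w 0
    have heq : tvElt v c * tvElt w d = tvElt w d * tvElt v c := by
      apply eq_of_mk_eq_of_fixed (by omega) h hx₀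
      · rw [sp_mul_mulVec, tvElt_mulVec_of_perp h2, tvElt_mulVec_of_perp h1]
      · rw [sp_mul_mulVec, tvElt_mulVec_of_perp h1, tvElt_mulVec_of_perp h2]
    have hI : I2 (K := F) v w := by
      intro a b hab
      have e1 := congrArg (fun y => Cfsg.sympForm m F y w) hab
      have e2 := congrArg (fun y => Cfsg.sympForm m F v y) hab
      simp only [sympForm_add_left, sympForm_smul_left, sympForm_add_right, sympForm_smul_right,
        sympForm_self, mul_zero, add_zero, zero_add, sympForm_zero_left, sympForm_zero_right]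
        at e1 e2
      exact ⟨(mul_eq_zero.mp e1).resolve_right hvw, (mul_eq_zero.mp e2).resolve_right hvw⟩
    obtain ⟨x, hxw, hxv⟩ := exists_form_one_zero hI.symm
    have := congrArg (fun s : Matrix.symplecticGroup (Fin m) F => s.1 *ᵥ x) heq
    simp only [sp_mul_mulVec, tvElt_mulVec, sympForm_add_left, sympForm_smul_left, hxw, hxv,
      mul_zero, mul_one, zero_smul, add_zero, zero_add] at this
    rw [add_assoc, add_right_inj, add_eq_left] at this
    have hw' : Cfsg.sympForm m F w v ≠ 0 := by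
      rw [sympForm_swap]
      exact neg_ne_zero.mpr hvw
    exact smul_ne_zero (mul_ne_zero hc (mul_ne_zero hd hw')) hI.left_ne_zero this
  · intro h
    unfold tbar
    rw [← QuotientGroup.mk_mul, ← QuotientGroup.mk_mul, tvElt_comm_of_perp h]

/-- a symplectic matrix fixing every point is trivial in `PSp` -/
theorem mk_eq_one_of_fix_points (hm : 1 ≤ m) {h : Matrix.symplecticGroup (Fin m) F}
    (hfix : ∀ v : Fin m ⊕ Fin m → F, v ≠ 0 → ¬ I2 (K := F) v (h.1 *ᵥ v)) :
    (QuotientGroup.mk h : Cfsg.PSp m F) = 1 := by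
  rw [QuotientGroup.eq_one_iff]
  have hex : ∀ v : Fin m ⊕ Fin m → F, ∃ a : F, h.1 *ᵥ v = a • v := by
    intro v
    by_cases hv : v = 0
    · exact ⟨0, by rw [hv, Matrix.mulVec_zero, smul_zero]⟩
    · exact exists_smul_of_not_I2 hv (hfix v hv)
  choose a ha using hex
  set e₀ : Fin m ⊕ Fin m → F := Pi.single (Sum.inl ⟨0, by omega⟩) 1 with he₀
  have he₀0 : e₀ ≠ 0 := by
    intro h0
    have := congrFun h0 (Sum.inl ⟨0, by omega⟩)
    rw [he₀, Pi.single_eq_same] at this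
    exact one_ne_zero this
  have hconst : ∀ v : Fin m ⊕ Fin m → F, v ≠ 0 → a v = a e₀ := by
    intro v hv
    by_cases hI : I2 (K := F) e₀ v
    · have h1 := ha (e₀ + v)
      rw [Matrix.mulVec_add, ha e₀, ha v, smul_add] at h1
      have h2 := hI (a e₀ - a (e₀ + v)) (a v - a (e₀ + v)) (by
        rw [sub_smul, sub_smul]
        linear_combination (norm := module) h1)
      rw [sub_eq_zero.mp h2.2, sub_eq_zero.mp h2.1]
    · obtain ⟨b, rfl⟩ := exists_smul_of_not_I2 he₀0 hI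
      have h1 := ha (b • e₀)
      rw [Matrix.mulVec_smul, ha e₀, smul_comm] at h1
      have h2 : (a e₀ - a (b • e₀)) • (b • e₀) = 0 := by
        rw [sub_smul, h1, sub_self]
      rcases smul_eq_zero.mp h2 with h3 | h3
      · exact (sub_eq_zero.mp h3).symm
      · exact absurd h3 hv
  apply mem_center_of_smul (a := a e₀)
  intro x
  by_cases hx : x = 0
  · rw [hx, Matrix.mulVec_zero, smul_zero]
  · rw [ha x, hconst x hx]

end Cfsg.Agent.Lib.Helper45.PSpAut
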