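/-
helper45: an explicit `p`-subgroup of `Sp_2m(F)` (Siegel unipotent radical times the unitriangular
part of the Levi factor) and the elements centralising it.
-/
import Cfsg.Agent.Lib.Helper45.PSpAut.Trans
import Cfsg.Agent.Lib.Helper45.PSLAut.SylowT
import Cfsg.Agent.Lib.Helper37.SpSylow

set_option autoImplicit false

namespace Cfsg.Agent.Lib.Helper45.PSpAut

open Matrix Cfsg.Agent.Lib.Helper13 Cfsg.Agent.Lib.Helper45.FTPG Cfsg.Agent.Lib.Helper45.PSLAut

variable {m : ℕ} {F : Type*} [Field F]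

/-- the basis vector `e_i` -/
def eL (i : Fin m) : Fin m ⊕ Fin m → F := Pi.single (Sum.inl i) 1

/-- the basis vector `f_i` -/
def eR (i : Fin m) : Fin m ⊕ Fin m → F := Pi.single (Sum.inr i) 1

/-- membership in the maximal totally isotropic subspace `E = ⟨e_i⟩` -/
def InE (y : Fin m ⊕ Fin m → F) : Prop := ∀ i : Fin m, y (Sum.inr i) = 0

theorem eL_inl (i k : Fin m) : (eL i : Fin m ⊕ Fin m → F) (Sum.inl k) = if k = i then 1 else 0 := by
  unfold eL
  rw [Pi.single_apply]
  simp only [Sum.inl.injEq]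

theorem eL_inr (i k : Fin m) : (eL i : Fin m ⊕ Fin m → F) (Sum.inr k) = 0 := by
  unfold eL
  rw [Pi.single_apply, if_neg (by simp)]

theorem eR_inr (i k : Fin m) : (eR i : Fin m ⊕ Fin m → F) (Sum.inr k) = if k = i then 1 else 0 := by
  unfold eR
  rw [Pi.single_apply]
  simp only [Sum.inr.injEq]

theorem eR_inl (i k : Fin m) : (eR i : Fin m ⊕ Fin m → F) (Sum.inl k) = 0 := by
  unfold eR
  rw [Pi.single_apply, if_neg (by simp)]

theorem eL_ne_zero (i : Fin m) : (eL i : Fin m ⊕ Fin m → F) ≠ 0 := by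
  intro h
  have := congrFun h (Sum.inl i)
  rw [eL_inl, if_pos rfl] at this
  exact one_ne_zero this

theorem form_eL (x : Fin m ⊕ Fin m → F) (i : Fin m) :
    Cfsg.sympForm m F x (eL i) = x (Sum.inr i) := sympForm_single_inl_right x i

theorem form_eR (x : Fin m ⊕ Fin m → F) (i : Fin m) :
    Cfsg.sympForm m F x (eR i) = -x (Sum.inl i) := sympForm_single_inr_right x i

theorem inE_eL (i : Fin m) : InE (eL i : Fin m ⊕ Fin m → F) := fun k => eL_inr i k

theorem inE_add {x y : Fin m ⊕ Fin m → F} (hx : InE x) (hy : InE y) : InE (x + y) := by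
  intro i
  rw [Pi.add_apply, hx i, hy i, add_zero]

theorem inE_smul (a : F) {x : Fin m ⊕ Fin m → F} (hx : InE x) : InE (a • x) := by
  intro i
  rw [Pi.smul_apply, hx i, smul_zero]

theorem form_inE {y v : Fin m ⊕ Fin m → F} (hy : InE y) (hv : InE v) :
    Cfsg.sympForm m F y v = 0 := by
  rw [sympForm_eq_sum]
  apply Finset.sum_eq_zero
  intro i _
  rw [hy i, hv i, zero_mul, mul_zero, sub_zero]

theorem inE_expand {y : Fin m ⊕ Fin m → F} (hy : InE y) :
    y = ∑ i : Fin m, y (Sum.inl i) • (eL i : Fin m ⊕ Fin m → F) := by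
  ext k
  rw [Finset.sum_apply]
  rcases k with k | k
  · simp only [Pi.smul_apply, eL_inl, smul_eq_mul, mul_ite, mul_one, mul_zero]
    rw [Finset.sum_ite_eq]
    simp
  · rw [hy k]
    symm
    apply Finset.sum_eq_zero
    intro i _
    rw [Pi.smul_apply, eL_inr, smul_zero]

/-- extensionality for symplectic matrices on the standard basis -/
theorem sp_ext_basis {A B : Matrix.symplecticGroup (Fin m) F}
    (h1 : ∀ k : Fin m, A.1 *ᵥ (eL k) = B.1 *ᵥ (eL k))
    (h2 : ∀ k : Fin m, A.1 *ᵥ (eR k) = B.1 *ᵥ (eR k)) : A = B := by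
  apply Subtype.ext
  ext i j
  rcases j with j | j
  · have := congrFun (h1 j) i
    unfold eL at this
    rw [Matrix.mulVec_single_one, Matrix.mulVec_single_one] at this
    exact this
  · have := congrFun (h2 j) i
    unfold eR at this
    rw [Matrix.mulVec_single_one, Matrix.mulVec_single_one] at this
    exact this

/-! ### The pointwise stabiliser of `E` -/

/-- the pointwise stabiliser of `E` in the symplectic group (the unipotent radical of the Siegel
parabolic) -/
def QQ (m : ℕ) (F : Type*) [Field F] : Subgroup (Matrix.symplecticGroup (Fin m) F) where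
  carrier := {s | ∀ y : Fin m ⊕ Fin m → F, InE y → s.1 *ᵥ y = y}
  mul_mem' := fun {a b} ha hb y hy => by rw [sp_mul_mulVec, hb y hy, ha y hy]
  one_mem' := fun y _ => sp_one_mulVec y
  inv_mem' := fun {a} ha y hy => by
    conv_lhs => rw [← ha y hy]
    exact sp_inv_mulVec_mulVec a y

theorem mem_QQ {s : Matrix.symplecticGroup (Fin m) F} :
    s ∈ QQ m F ↔ ∀ y : Fin m ⊕ Fin m → F, InE y → s.1 *ᵥ y = y := Iff.rfl

theorem QQ_sub_inE {s : Matrix.symplecticGroup (Fin m) F} (hs : s ∈ QQ m F)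
    (x : Fin m ⊕ Fin m → F) : InE (s.1 *ᵥ x - x) := by
  intro i
  have h1 : Cfsg.sympForm m F (s.1 *ᵥ x - x) (eL i) = 0 := by
    rw [sympForm_sub_left]
    conv_lhs => rw [← hs (eL i) (inE_eL i)]
    rw [sp_form, hs (eL i) (inE_eL i), sub_self]
  rw [form_eL] at h1
  exact h1

theorem tvElt_mem_QQ {v : Fin m ⊕ Fin m → F} (hv : InE v) (c : F) : tvElt v c ∈ QQ m F :=
  fun _ hy => tvElt_mulVec_of_perp (form_inE hy hv) c

theorem QQ_pow_mulVec {s : Matrix.symplecticGroup (Fin m) F} (hs : s ∈ QQ m F) (k : ℕ)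
    (x : Fin m ⊕ Fin m → F) : (s ^ k).1 *ᵥ x = x + (k : F) • (s.1 *ᵥ x - x) := by
  induction k with
  | zero => rw [pow_zero, sp_one_mulVec, Nat.cast_zero, zero_smul, add_zero]
  | succ k ih =>
    rw [pow_succ', sp_mul_mulVec, ih, Matrix.mulVec_add, Matrix.mulVec_smul,
      hs _ (QQ_sub_inE hs x), Nat.cast_succ, add_smul, one_smul]
    abel

theorem isPGroup_QQ (p : ℕ) [Fact p.Prime] [CharP F p] : IsPGroup p (QQ m F) := by
  intro s
  refine ⟨1, ?_⟩
  apply Subtype.ext
  apply sp_ext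
  intro x
  rw [pow_one]
  show ((s.1 : Matrix.symplecticGroup (Fin m) F) ^ p).1 *ᵥ x = _
  rw [QQ_pow_mulVec s.2, CharP.cast_eq_zero F p, zero_smul, add_zero]
  exact (sp_one_mulVec x).symm

/-! ### The unitriangular part of the Levi factor -/

/-- the Levi embedding of `SL_m` -/
noncomputable def levi (A : Matrix.SpecialLinearGroup (Fin m) F) :
    Matrix.symplecticGroup (Fin m) F :=
  Cfsg.Agent.Lib.Helper37.SpSylow.leviHom (Matrix.SpecialLinearGroup.toGL A)

/-- the Levi embedding as a homomorphism -/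
noncomputable def leviSL : Matrix.SpecialLinearGroup (Fin m) F →* Matrix.symplecticGroup (Fin m) F :=
  (Cfsg.Agent.Lib.Helper37.SpSylow.leviHom).comp Matrix.SpecialLinearGroup.toGL

theorem leviSL_coe (A : Matrix.SpecialLinearGroup (Fin m) F) :
    (leviSL A).1 = Matrix.fromBlocks (A : Matrix (Fin m) (Fin m) F) 0 0
      ((A⁻¹ : Matrix.SpecialLinearGroup (Fin m) F) : Matrix (Fin m) (Fin m) F)ᵀ := by
  show Matrix.fromBlocks _ 0 0 _ = _
  congr 2

theorem leviSL_inE (A : Matrix.SpecialLinearGroup (Fin m) F) {y : Fin m ⊕ Fin m → F}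
    (hy : InE y) : InE ((leviSL A).1 *ᵥ y) := by
  intro i
  rw [leviSL_coe, Matrix.fromBlocks_mulVec, Sum.elim_inr]
  have : y ∘ Sum.inr = 0 := funext hy
  rw [this, Matrix.mulVec_zero, Matrix.zero_mulVec, add_zero]
  rfl

/-- the image of the unitriangular group of `SL_m` under the Levi embedding -/
noncomputable def LL (m : ℕ) (F : Type*) [Field F] [Finite F] :
    Subgroup (Matrix.symplecticGroup (Fin m) F) :=
  (UU m F).map leviSL

theorem LL_conj_mem [Finite F] {a s : Matrix.symplecticGroup (Fin m) F} (ha : a ∈ LL m F)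
    (hs : s ∈ QQ m F) : a * s * a⁻¹ ∈ QQ m F := by
  obtain ⟨A, -, rfl⟩ := ha
  intro y hy
  have h1 : InE ((leviSL A)⁻¹.1 *ᵥ y) := by
    rw [← map_inv]
    exact leviSL_inE _ hy
  rw [sp_mul_mulVec, sp_mul_mulVec, hs _ h1, sp_mulVec_inv_mulVec]

theorem LL_le_normalizer [Finite F] :
    LL m F ≤ Subgroup.normalizer ((QQ m F : Subgroup (Matrix.symplecticGroup (Fin m) F)) : Set _) := by
  intro a ha
  rw [Subgroup.mem_normalizer_iff]
  intro s
  constructor
  · intro hs
    exact LL_conj_mem ha hs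
  · intro hs
    have := LL_conj_mem (inv_mem ha) hs
    simpa [mul_assoc] using this

/-- the explicit `p`-subgroup -/
noncomputable def UUsp (m : ℕ) (F : Type*) [Field F] [Finite F] :
    Subgroup (Matrix.symplecticGroup (Fin m) F) :=
  LL m F ⊔ QQ m F

theorem isPGroup_UUsp [Fintype F] (p : ℕ) [Fact p.Prime] [CharP F p] : IsPGroup p (UUsp m F) := by
  obtain ⟨n, -, hn⟩ := FiniteField.card F p
  have h1 : IsPGroup p (LL m F) := (isPGroup_UU (n := m) (f := (n : ℕ)) hn).map _
  exact h1.to_sup_of_normal_right' (isPGroup_QQ p) LL_le_normalizer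

/-- the basic unitriangular elements of the Levi factor -/
noncomputable def aij (i j : Fin m) : Matrix.symplecticGroup (Fin m) F :=
  leviSL (tv (eb i) (eb j))

theorem aij_mem [Finite F] {i j : Fin m} (hij : i < j) : (aij i j : Matrix.symplecticGroup (Fin m) F) ∈
    UUsp m F :=
  (le_sup_left : LL m F ≤ UUsp m F) (Subgroup.mem_map_of_mem _ (tv_eb_mem_UU' hij))

theorem tvElt_mem_UUsp [Finite F] {v : Fin m ⊕ Fin m → F} (hv : InE v) (c : F) :
    tvElt v c ∈ UUsp m F :=
  (le_sup_right : QQ m F ≤ UUsp m F) (tvElt_mem_QQ hv c)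

theorem aij_mulVec {i j : Fin m} (hij : i ≠ j) (x : Fin m ⊕ Fin m → F) :
    (aij i j : Matrix.symplecticGroup (Fin m) F).1 *ᵥ x =
      x + x (Sum.inl j) • eL i - x (Sum.inr i) • eR j := by
  have h0 : (eb j : Fin m → F) ⬝ᵥ eb i = 0 := eb_dot_eb_of_ne (Ne.symm hij)
  have h0' : (-(eb j : Fin m → F)) ⬝ᵥ eb i = 0 := by rw [neg_dotProduct, h0, neg_zero]
  unfold aij
  rw [leviSL_coe, tv_inv h0, tv_coe h0, tv_coe h0', Matrix.fromBlocks_mulVec]
  simp only [Matrix.zero_mulVec, add_zero, zero_add, Matrix.mulVec_transpose, tvMat_mulVec,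
    vecMul_tvMat]
  ext k
  rcases k with k | k
  · simp only [Sum.elim_inl, Pi.add_apply, Pi.sub_apply, Pi.smul_apply, smul_eq_mul, eL_inl,
      eR_inl, mul_zero, sub_zero, Function.comp_apply]
    rw [eb_dot, eb_apply]
    rfl
  · simp only [Sum.elim_inr, Pi.add_apply, Pi.sub_apply, Pi.smul_apply, smul_eq_mul, eL_inr,
      eR_inr, mul_zero, add_zero, Function.comp_apply, Pi.neg_apply]
    rw [dot_eb, eb_apply]
    simp only [Function.comp_apply]
    ring

end Cfsg.Agent.Lib.Helper45.PSpAut
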