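/-
helper45: the elements of `Sp_2m(F)` centralising the explicit `p`-subgroup `UUsp`.
-/
import Cfsg.Agent.Lib.Helper45.PSpAut.Unip

set_option autoImplicit false

namespace Cfsg.Agent.Lib.Helper45.PSpAut

open Matrix Cfsg.Agent.Lib.Helper13 Cfsg.Agent.Lib.Helper45.FTPG Cfsg.Agent.Lib.Helper45.PSLAut

variable {m : ℕ} {F : Type*} [Field F]

theorem tvElt_inj_coeff {v : Fin m ⊕ Fin m → F} (hv : v ≠ 0) {c d : F}
    (h : tvElt v c = tvElt v d) : c = d := by
  obtain ⟨a, ha⟩ := exists_form_eq_one hv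
  have h1 := congrArg (fun s : Matrix.symplecticGroup (Fin m) F => s.1 *ᵥ a) h
  simp only [tvElt_mulVec, ha, mul_one, add_right_inj] at h1
  have h2 : (c - d) • v = 0 := by rw [sub_smul, h1, sub_self]
  rcases smul_eq_zero.mp h2 with h3 | h3
  · exact sub_eq_zero.mp h3
  · exact absurd h3 hv

/-- an element commuting with a transvection scales its centre by a sign -/
theorem centralizes_tv (hm : 2 ≤ m) {z : Matrix.symplecticGroup (Fin m) F}
    {v : Fin m ⊕ Fin m → F} (hv : v ≠ 0) (h : z * tvElt v 1 = tvElt v 1 * z) :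
    ∃ k : F, k * k = 1 ∧ z.1 *ᵥ v = k • v := by
  have h1 : tvElt (z.1 *ᵥ v) (1 : F) = tvElt v 1 := by
    rw [← conj_tvElt, h, mul_inv_cancel_right]
  have h2 : tbar v (1 : F) = tbar (z.1 *ᵥ v) 1 := by
    unfold tbar
    rw [h1]
  obtain ⟨k, hk, h3⟩ := par_of_tbar_eq hm hv (sp_mulVec_ne_zero z hv) one_ne_zero one_ne_zero h2
  refine ⟨k, ?_, h3⟩
  rw [h3, tvElt_smul, one_mul] at h1
  have := tvElt_inj_coeff hv h1
  rw [← this]
  ring

/-- an element commuting with all transvections centred in `E` acts on `E` by a sign -/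
theorem exists_sign_on_E (hm : 2 ≤ m) {z : Matrix.symplecticGroup (Fin m) F}
    (h : ∀ v : Fin m ⊕ Fin m → F, InE v → z * tvElt v 1 = tvElt v 1 * z) :
    ∃ k : F, k * k = 1 ∧ ∀ y : Fin m ⊕ Fin m → F, InE y → z.1 *ᵥ y = k • y := by
  set i₀ : Fin m := ⟨0, by omega⟩ with hi₀
  obtain ⟨k, hk, hk0⟩ := centralizes_tv hm (eL_ne_zero i₀) (h _ (inE_eL i₀))
  have hall : ∀ i : Fin m, z.1 *ᵥ (eL i) = k • eL i := by
    intro i
    by_cases hi : i = i₀
    · rw [hi]
      exact hk0
    · obtain ⟨ki, -, hki⟩ := centralizes_tv hm (eL_ne_zero i) (h _ (inE_eL i))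
      have hv0 : (eL i₀ + eL i : Fin m ⊕ Fin m → F) ≠ 0 := by
        intro h0
        have := congrFun h0 (Sum.inl i₀)
        rw [Pi.add_apply, eL_inl, eL_inl, if_pos rfl, if_neg (Ne.symm hi), add_zero] at this
        exact one_ne_zero this
      obtain ⟨k', -, hk'⟩ := centralizes_tv hm hv0 (h _ (inE_add (inE_eL i₀) (inE_eL i)))
      rw [Matrix.mulVec_add, hk0, hki] at hk'
      have e1 := congrFun hk' (Sum.inl i₀)
      have e2 := congrFun hk' (Sum.inl i)
      simp only [Pi.add_apply, Pi.smul_apply, eL_inl, smul_eq_mul, if_pos, if_neg (Ne.symm hi),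
        if_neg hi, mul_zero, mul_one, add_zero, zero_add] at e1 e2
      rw [hki, e2, ← e1]
  refine ⟨k, hk, fun y hy => ?_⟩
  conv_lhs => rw [inE_expand hy]
  conv_rhs => rw [inE_expand hy]
  rw [Matrix.mulVec_sum, Finset.smul_sum]
  apply Finset.sum_congr rfl
  intro i _
  rw [Matrix.mulVec_smul, hall, smul_comm]

/-- replacing a centralising element by a representative in `QQ` -/
theorem exists_QQ_rep (hm : 2 ≤ m) {z : Matrix.symplecticGroup (Fin m) F}
    (h : ∀ v : Fin m ⊕ Fin m → F, InE v → z * tvElt v 1 = tvElt v 1 * z) :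
    ∃ z' : Matrix.symplecticGroup (Fin m) F, z' ∈ QQ m F ∧
      (QuotientGroup.mk z' : Cfsg.PSp m F) = QuotientGroup.mk z ∧
      ∀ a : Matrix.symplecticGroup (Fin m) F, z * a = a * z → z' * a = a * z' := by
  obtain ⟨k, hk, hkE⟩ := exists_sign_on_E hm h
  have hmem : k • z.1 ∈ Matrix.symplecticGroup (Fin m) F := by
    rw [mem_symplecticGroup_iff]
    intro u v
    rw [Matrix.smul_mulVec, Matrix.smul_mulVec, sympForm_smul_left, sympForm_smul_right,
      sp_form, ← mul_assoc, hk, one_mul]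
  have hz' : ∀ x, (⟨k • z.1, hmem⟩ : Matrix.symplecticGroup (Fin m) F).1 *ᵥ x = k • z.1 *ᵥ x :=
    fun x => Matrix.smul_mulVec _ _ _
  refine ⟨⟨k • z.1, hmem⟩, ?_, ?_, ?_⟩
  · intro y hy
    rw [hz', hkE y hy, smul_smul, hk, one_smul]
  · rw [eq_comm, QuotientGroup.eq]
    apply mem_center_of_smul (a := k)
    intro x
    rw [sp_mul_mulVec, hz', Matrix.mulVec_smul, sp_inv_mulVec_mulVec]
  · intro a ha
    apply sp_ext
    intro x
    rw [sp_mul_mulVec, sp_mul_mulVec, hz', hz', Matrix.mulVec_smul, ← sp_mul_mulVec,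
      ← sp_mul_mulVec, ha]

section QQcomp

variable {z : Matrix.symplecticGroup (Fin m) F} (hz : z ∈ QQ m F)

include hz

theorem QQ_eR_inr (k l : Fin m) :
    (z.1 *ᵥ (eR k)) (Sum.inr l) = if l = k then 1 else 0 := by
  have := QQ_sub_inE hz (eR k) l
  rw [Pi.sub_apply, eR_inr, sub_eq_zero] at this
  exact this

/-- the off-diagonal block of an element of `QQ` is symmetric -/
theorem QQ_symm (k l : Fin m) :
    (z.1 *ᵥ (eR k)) (Sum.inl l) = (z.1 *ᵥ (eR l)) (Sum.inl k) := by
  have h1 := sp_form z (eR k) (eR l)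
  rw [form_eR, eR_inl, neg_zero, sympForm_eq_sum] at h1
  simp only [QQ_eR_inr hz] at h1
  simp only [ite_mul, one_mul, zero_mul, mul_ite, mul_one, mul_zero] at h1
  rw [Finset.sum_sub_distrib, Finset.sum_ite_eq', Finset.sum_ite_eq'] at h1
  simp only [Finset.mem_univ, if_true] at h1
  exact (sub_eq_zero.mp h1).symm

/-- the relation imposed by commuting with `aij i j` -/
theorem QQ_dagger {i j : Fin m} (hij : i ≠ j) (h : z * aij i j = aij i j * z) (k l : Fin m) :
    -((if i = k then (1 : F) else 0) * (z.1 *ᵥ (eR j)) (Sum.inl l)) =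
      (if l = i then (1 : F) else 0) * (z.1 *ᵥ (eR k)) (Sum.inl j) := by
  have e1 : (aij i j : Matrix.symplecticGroup (Fin m) F).1 *ᵥ (eR k) =
      eR k - (if i = k then (1 : F) else 0) • eR j := by
    rw [aij_mulVec hij, eR_inl, zero_smul, add_zero, eR_inr]
  have e2 : (aij i j : Matrix.symplecticGroup (Fin m) F).1 *ᵥ (z.1 *ᵥ (eR k)) =
      z.1 *ᵥ (eR k) + (z.1 *ᵥ (eR k)) (Sum.inl j) • eL i -
        (if i = k then (1 : F) else 0) • eR j := by
    rw [aij_mulVec hij, QQ_eR_inr hz]
  have e3 := congrArg (fun s : Matrix.symplecticGroup (Fin m) F => s.1 *ᵥ (eR k)) h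
  simp only [sp_mul_mulVec] at e3
  rw [e1, e2, Matrix.mulVec_sub, Matrix.mulVec_smul] at e3
  have e4 := congrFun e3 (Sum.inl l)
  simp only [Pi.sub_apply, Pi.add_apply, Pi.smul_apply, smul_eq_mul, eL_inl, eR_inl, mul_zero,
    sub_zero] at e4
  linear_combination e4

end QQcomp

/-- the centraliser of `UUsp` inside `QQ`, odd characteristic: transvections centred at `e_0` -/
theorem QQ_centralizer_odd (hm : 2 ≤ m) (h2 : (2 : F) ≠ 0)
    {z : Matrix.symplecticGroup (Fin m) F} (hz : z ∈ QQ m F)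
    (h : ∀ i j : Fin m, i < j → z * aij i j = aij i j * z) :
    ∃ β : F, z = tvElt (eL ⟨0, by omega⟩) β := by
  set i₀ : Fin m := ⟨0, by omega⟩ with hi₀
  set B : Fin m → Fin m → F := fun l k => (z.1 *ᵥ (eR k)) (Sum.inl l) with hB
  have hsymm : ∀ l k, B l k = B k l := fun l k => QQ_symm hz k l
  have hdag : ∀ i j : Fin m, i < j → ∀ k l : Fin m,
      -((if i = k then (1 : F) else 0) * B l j) = (if l = i then (1 : F) else 0) * B j k :=
    fun i j hij k l => QQ_dagger hz (ne_of_lt hij) (h i j hij) k l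
  have hD1 : ∀ i j k : Fin m, i < j → i ≠ k → B j k = 0 := by
    intro i j k hij hik
    have := hdag i j hij k i
    rw [if_neg hik, if_pos rfl, zero_mul, neg_zero, one_mul] at this
    exact this.symm
  have hD2 : ∀ i j : Fin m, i < j → B i j = 0 := by
    intro i j hij
    have := hdag i j hij i i
    rw [if_pos rfl, one_mul, one_mul, hsymm j i] at this
    have h3 : (2 : F) * B i j = 0 := by linear_combination -this
    exact (mul_eq_zero.mp h3).resolve_left h2
  have hzero : ∀ l k : Fin m, (l ≠ i₀ ∨ k ≠ i₀) → B l k = 0 := by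
    intro l k hlk
    rcases lt_trichotomy l k with hlt | heq | hgt
    · exact hD2 l k hlt
    · rw [heq] at hlk ⊢
      have hk : k ≠ i₀ := by tauto
      have hpos : i₀ < k := by
        rw [Fin.lt_def]
        have : (k : ℕ) ≠ 0 := fun h0 => hk (Fin.ext h0)
        show 0 < (k : ℕ)
        omega
      exact hD1 i₀ k k hpos (Ne.symm hk)
    · rw [hsymm]
      exact hD2 k l hgt
  refine ⟨B i₀ i₀, ?_⟩
  apply sp_ext_basis
  · intro k
    rw [hz _ (inE_eL k), tvElt_mulVec_of_perp (form_inE (inE_eL k) (inE_eL i₀))]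
  · intro k
    rw [tvElt_mulVec, form_eL, eR_inr]
    ext c
    rcases c with l | l
    · rw [Pi.add_apply, Pi.smul_apply, eR_inl, zero_add, eL_inl, smul_eq_mul]
      show B l k = _
      by_cases hl : l = i₀
      · by_cases hk : i₀ = k
        · rw [if_pos hk, if_pos hl, mul_one, mul_one, hl, ← hk]
        · rw [if_neg hk, mul_zero, zero_mul]
          exact hzero l k (Or.inr (Ne.symm hk))
      · rw [if_neg hl, mul_zero]
        exact hzero l k (Or.inl hl)
    · rw [Pi.add_apply, Pi.smul_apply, eL_inr, smul_zero, add_zero, QQ_eR_inr hz, eR_inr]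

/-- lifting a commutation relation from `PSp` to `Sp` for elements of `p`-power order -/
theorem comm_of_mk_comm (hm : 1 ≤ m) (p : ℕ) [Fact p.Prime] [CharP F p]
    {u z : Matrix.symplecticGroup (Fin m) F} {k : ℕ} (hu : u ^ (p ^ k) = 1)
    (h : (QuotientGroup.mk z : Cfsg.PSp m F) * QuotientGroup.mk u =
      QuotientGroup.mk u * QuotientGroup.mk z) : z * u = u * z := by
  have : Nonempty (Fin m) := ⟨⟨0, by omega⟩⟩
  set c : Matrix.symplecticGroup (Fin m) F := z * u * z⁻¹ * u⁻¹ with hc
  have hcc : c ∈ Subgroup.center (Matrix.symplecticGroup (Fin m) F) := by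
    rw [← QuotientGroup.eq_one_iff, hc]
    simp only [QuotientGroup.mk_mul, QuotientGroup.mk_inv]
    rw [h]
    group
  have hcu : z * u * z⁻¹ = c * u := by
    rw [hc]
    group
  have hcomm : Commute c u := (Subgroup.mem_center_iff.mp hcc u).symm
  have hcn : c ^ (p ^ k) = 1 := by
    have h1 : (z * u * z⁻¹) ^ (p ^ k) = 1 := by
      rw [conj_pow, hu, mul_one, mul_inv_cancel]
    rw [hcu, hcomm.mul_pow, hu, mul_one] at h1
    exact h1
  have hc1 : c = 1 := by
    rcases Cfsg.Agent.Lib.Helper5.symplecticGroup_center_eq_one_or_neg_one c hcc with h1 | h1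
    · exact Subtype.ext h1
    · -- `-1 = 1` in `F`
      have hneg : (-1 : F) = 1 := by
        rcases Nat.Prime.eq_two_or_odd' (Fact.out : p.Prime) with hp2 | hpodd
        · have h2 : (2 : F) = 0 := by
            have := CharP.cast_eq_zero F p
            rw [hp2] at this
            exact_mod_cast this
          linear_combination (-1 : F) * h2
        · have hodd : Odd (p ^ k) := hpodd.pow
          have h3 := congrArg Subtype.val hcn
          rw [SubmonoidClass.coe_pow, h1, hodd.neg_one_pow] at h3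
          have h4 := congrFun (congrFun h3 (Sum.inl ⟨0, by omega⟩)) (Sum.inl ⟨0, by omega⟩)
          simpa using h4
      apply Subtype.ext
      rw [h1]
      ext i j
      rw [Matrix.neg_apply, ← neg_one_mul, hneg, one_mul]
      rfl
  have : z * u = c * u * z := by
    rw [← hcu]
    group
  rw [this, hc1, one_mul]

end Cfsg.Agent.Lib.Helper45.PSpAut
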