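/-
helper45: the centraliser of `UUsp` inside `QQ` in general characteristic (a "long root" and a
"short root" parameter), and the centraliser of an element with non-zero short root parameter
stabilises a totally isotropic line.
-/
import Cfsg.Agent.Lib.Helper45.PSpAut.Central
import Cfsg.Agent.Lib.Helper13.StabFin

set_option autoImplicit false

namespace Cfsg.Agent.Lib.Helper45.PSpAut

open Matrix Cfsg.Agent.Lib.Helper13 Cfsg.Agent.Lib.Helper45.FTPG Cfsg.Agent.Lib.Helper45.PSLAut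

variable {m : ℕ} {F : Type*} [Field F]

/-- the shape of an element of `QQ` centralising the Levi unitriangular part -/
def IsR (i₀ i₁ : Fin m) (β b : F) (z : Matrix.symplecticGroup (Fin m) F) : Prop :=
  ∀ x : Fin m ⊕ Fin m → F, z.1 *ᵥ x =
    x + (β * x (Sum.inr i₀) + b * x (Sum.inr i₁)) • eL i₀ + (b * x (Sum.inr i₀)) • eL i₁

theorem QQ_centralizer_gen (hm : 2 ≤ m) {z : Matrix.symplecticGroup (Fin m) F} (hz : z ∈ QQ m F)
    (h : ∀ i j : Fin m, i < j → z * aij i j = aij i j * z) :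
    ∃ β b : F, IsR ⟨0, by omega⟩ ⟨1, by omega⟩ β b z := by
  set i₀ : Fin m := ⟨0, by omega⟩ with hi₀
  set i₁ : Fin m := ⟨1, by omega⟩ with hi₁
  have h01 : i₀ < i₁ := by
    rw [Fin.lt_def]
    show (0 : ℕ) < 1
    omega
  have hne01 : i₀ ≠ i₁ := ne_of_lt h01
  set B : Fin m → Fin m → F := fun l k => (z.1 *ᵥ (eR k)) (Sum.inl l) with hB
  have hsymm : ∀ l k, B l k = B k l := fun l k => QQ_symm hz k l
  have hdag : ∀ i j : Fin m, i < j → ∀ k l : Fin m,
      -((if i = k then (1 : F) else 0) * B l j) = (if l = i then (1 : F) else 0) * B j k :=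
    fun i j hij k l => QQ_dagger hz (ne_of_lt hij) (h i j hij) k l
  have hD1 : ∀ i j k : Fin m, i < j → i ≠ k → B j k = 0 := by
    intro i j k hij hik
    have := hdag i j hij k i
    rw [if_neg hik, if_pos rfl, zero_mul, neg_zero, one_mul] at this
    exact this.symm
  have hbig : ∀ l k : Fin m, 2 ≤ (l : ℕ) → B l k = 0 := by
    intro l k hl
    by_cases hk : k = i₀
    · apply hD1 i₁ l k
      · rw [Fin.lt_def]
        show (1 : ℕ) < l
        omega
      · rw [hk]
        exact Ne.symm hne01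
    · apply hD1 i₀ l k
      · rw [Fin.lt_def]
        show (0 : ℕ) < l
        omega
      · exact Ne.symm hk
  have h11 : B i₁ i₁ = 0 := hD1 i₀ i₁ i₁ h01 hne01
  have hcases : ∀ l : Fin m, l = i₀ ∨ l = i₁ ∨ 2 ≤ (l : ℕ) := by
    intro l
    rcases Nat.lt_or_ge (l : ℕ) 2 with h2 | h2
    · rcases Nat.lt_or_ge (l : ℕ) 1 with h1 | h1
      · left
        apply Fin.ext
        show (l : ℕ) = 0
        omega
      · right; left
        apply Fin.ext
        show (l : ℕ) = 1
        omega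
    · right; right
      exact h2
  refine ⟨B i₀ i₀, B i₁ i₀, ?_⟩
  intro x
  -- compare coordinates, using linearity through the basis
  have hzE : ∀ k, z.1 *ᵥ (eL k) = eL k := fun k => hz _ (inE_eL k)
  -- the entries of `z`
  have hent1 : ∀ a k, z.1 a (Sum.inl k) = (eL k : Fin m ⊕ Fin m → F) a := by
    intro a k
    have := congrFun (hzE k) a
    unfold eL at this ⊢
    rw [Matrix.mulVec_single_one] at this
    exact this
  have hent2 : ∀ a k, z.1 a (Sum.inr k) = (z.1 *ᵥ (eR k)) a := by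
    intro a k
    unfold eR
    rw [Matrix.mulVec_single_one]
    rfl
  have hBz : ∀ l k, B l k = 0 ∨ (l = i₀ ∧ k = i₀) ∨ (l = i₀ ∧ k = i₁) ∨ (l = i₁ ∧ k = i₀) := by
    intro l k
    rcases hcases l with hl | hl | hl
    · rcases hcases k with hk | hk | hk
      · right; left; exact ⟨hl, hk⟩
      · right; right; left; exact ⟨hl, hk⟩
      · left
        rw [hsymm]
        exact hbig k l hk
    · rcases hcases k with hk | hk | hk
      · right; right; right; exact ⟨hl, hk⟩
      · left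
        rw [hl, hk]
        exact h11
      · left
        rw [hsymm]
        exact hbig k l hk
    · left
      exact hbig l k hl
  ext a
  rcases a with l | l
  · -- `inl` coordinate
    have h1 : (z.1 *ᵥ x) (Sum.inl l) = x (Sum.inl l) + ∑ k, B l k * x (Sum.inr k) := by
      rw [Matrix.mulVec, dotProduct, Fintype.sum_sum_type]
      congr 1
      · simp only [hent1, eL_inl]
        rw [Finset.sum_eq_single l]
        · rw [if_pos rfl, one_mul]
        · intro k _ hk
          rw [if_neg (Ne.symm hk), zero_mul]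
        · intro hl
          exact absurd (Finset.mem_univ l) hl
      · apply Finset.sum_congr rfl
        intro k _
        rw [hent2]
    have h2 : ∑ k, B l k * x (Sum.inr k) = B l i₀ * x (Sum.inr i₀) + B l i₁ * x (Sum.inr i₁) := by
      rw [Finset.sum_eq_add_of_mem i₀ i₁ (Finset.mem_univ _) (Finset.mem_univ _) hne01]
      intro k _ hk
      rcases hBz l k with h0 | ⟨-, hk'⟩ | ⟨-, hk'⟩ | ⟨-, hk'⟩
      · rw [h0, zero_mul]
      · exact absurd hk' hk.1
      · exact absurd hk' hk.2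
      · exact absurd hk' hk.1
    rw [h1, h2]
    simp only [Pi.add_apply, Pi.smul_apply, eL_inl, smul_eq_mul]
    rcases hcases l with hl | hl | hl
    · rw [hl, if_pos rfl, if_neg hne01, hsymm i₀ i₁]
      ring
    · rw [hl, if_pos rfl, if_neg (Ne.symm hne01), h11]
      ring
    · have hl0 : l ≠ i₀ := by
        intro h0
        rw [h0] at hl
        change 2 ≤ 0 at hl
        omega
      have hl1 : l ≠ i₁ := by
        intro h0
        rw [h0] at hl
        change 2 ≤ 1 at hl
        omega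
      rw [if_neg hl0, if_neg hl1, hbig l i₀ hl, hbig l i₁ hl]
      ring
  · -- `inr` coordinate
    have := QQ_sub_inE hz x l
    rw [Pi.sub_apply, sub_eq_zero] at this
    rw [this]
    simp only [Pi.add_apply, Pi.smul_apply, eL_inr, smul_eq_mul, mul_zero, add_zero]

section IsR

variable {i₀ i₁ : Fin m} {β b : F} {z : Matrix.symplecticGroup (Fin m) F}

theorem IsR.eq_tvElt (hz : IsR i₀ i₁ β 0 z) : z = tvElt (eL i₀) β := by
  apply sp_ext
  intro x
  rw [hz x, tvElt_mulVec, form_eL]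
  simp

/-- the totally isotropic line attached to an element with non-zero short root parameter -/
noncomputable def lineW (i₀ i₁ : Fin m) : Submodule F (Fin m ⊕ Fin m → F) :=
  Submodule.span F (Set.range ![(eL i₀ : Fin m ⊕ Fin m → F), eL i₁])

theorem mem_lineW {i₀ i₁ : Fin m} {w : Fin m ⊕ Fin m → F} :
    w ∈ lineW (F := F) i₀ i₁ ↔ ∃ a c : F, w = a • eL i₀ + c • eL i₁ := by
  unfold lineW
  rw [Submodule.mem_span_range_iff_exists_fun]
  constructor
  · rintro ⟨f, hf⟩
    refine ⟨f 0, f 1, ?_⟩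
    rw [← hf, Fin.sum_univ_two]
    rfl
  · rintro ⟨a, c, rfl⟩
    refine ⟨![a, c], ?_⟩
    rw [Fin.sum_univ_two]
    rfl

theorem finrank_lineW {i₀ i₁ : Fin m} (h : i₀ ≠ i₁) :
    Module.finrank F (lineW (F := F) i₀ i₁) = 2 := by
  unfold lineW
  rw [finrank_span_eq_card]
  · simp
  · rw [LinearIndependent.pair_iff]
    intro s t hst
    have e1 := congrFun hst (Sum.inl i₀)
    have e2 := congrFun hst (Sum.inl i₁)
    simp only [Pi.add_apply, Pi.smul_apply, eL_inl, smul_eq_mul, if_pos, if_neg h,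
      if_neg (Ne.symm h), mul_one, mul_zero, add_zero, zero_add, Pi.zero_apply] at e1 e2
    exact ⟨e1, e2⟩

theorem lineW_isotropic {i₀ i₁ : Fin m} :
    ∀ u ∈ lineW (F := F) i₀ i₁, ∀ v ∈ lineW (F := F) i₀ i₁, Cfsg.sympForm m F u v = 0 := by
  intro u hu v hv
  obtain ⟨a, c, rfl⟩ := mem_lineW.mp hu
  obtain ⟨a', c', rfl⟩ := mem_lineW.mp hv
  exact form_inE (inE_add (inE_smul _ (inE_eL _)) (inE_smul _ (inE_eL _)))
    (inE_add (inE_smul _ (inE_eL _)) (inE_smul _ (inE_eL _)))

/-- the centraliser of an element with non-zero short root parameter stabilises the line -/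
theorem IsR.centralizer_le [Finite F] (h01 : i₀ ≠ i₁) (hz : IsR i₀ i₁ β b z) (hb : b ≠ 0) :
    Subgroup.centralizer ({z} : Set (Matrix.symplecticGroup (Fin m) F)) ≤
      Cfsg.stabilizing (Cfsg.spToMat m F) (lineW (F := F) i₀ i₁ : Set (Fin m ⊕ Fin m → F)) := by
  intro h hh
  rw [Subgroup.mem_centralizer_singleton_iff] at hh
  apply mem_stabilizing_of_finite _ _ (Set.toFinite _)
  -- `N y = z y - y` commutes with `h`
  have hN : ∀ y, h.1 *ᵥ (z.1 *ᵥ y - y) = z.1 *ᵥ (h.1 *ᵥ y) - h.1 *ᵥ y := by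
    intro y
    rw [Matrix.mulVec_sub, ← sp_mul_mulVec, ← sp_mul_mulVec, hh]
  have hNW : ∀ y, z.1 *ᵥ y - y ∈ lineW (F := F) i₀ i₁ := by
    intro y
    rw [mem_lineW, hz y]
    exact ⟨_, _, by abel⟩
  have h0 : z.1 *ᵥ (b⁻¹ • eR i₁) - b⁻¹ • eR i₁ = (eL i₀ : Fin m ⊕ Fin m → F) := by
    rw [hz]
    simp only [Pi.smul_apply, eR_inr, smul_eq_mul, if_neg h01, if_pos, mul_zero, mul_one,
      zero_smul, add_zero, zero_add, mul_inv_cancel₀ hb, one_smul]
    abel
  have h1 : z.1 *ᵥ (b⁻¹ • eR i₀ - (b⁻¹ * β * b⁻¹) • eR i₁) -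
      (b⁻¹ • eR i₀ - (b⁻¹ * β * b⁻¹) • eR i₁) = (eL i₁ : Fin m ⊕ Fin m → F) := by
    rw [hz]
    simp only [Pi.sub_apply, Pi.smul_apply, eR_inr, smul_eq_mul, if_neg h01, if_neg (Ne.symm h01),
      if_pos, mul_zero, mul_one, sub_zero, zero_sub]
    have e1 : β * b⁻¹ + b * -(b⁻¹ * β * b⁻¹) = 0 := by
      field_simp
      ring
    rw [e1, zero_smul, add_zero, mul_inv_cancel₀ hb, one_smul]
    abel
  have hhe0 : h.1 *ᵥ (eL i₀) ∈ lineW (F := F) i₀ i₁ := by
    rw [← h0, hN]
    exact hNW _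
  have hhe1 : h.1 *ᵥ (eL i₁) ∈ lineW (F := F) i₀ i₁ := by
    rw [← h1, hN]
    exact hNW _
  intro v hv
  obtain ⟨a, c, rfl⟩ := mem_lineW.mp hv
  show h.1 *ᵥ (a • eL i₀ + c • eL i₁) ∈ lineW (F := F) i₀ i₁
  rw [Matrix.mulVec_add, Matrix.mulVec_smul, Matrix.mulVec_smul]
  exact Submodule.add_mem _ (Submodule.smul_mem _ _ hhe0) (Submodule.smul_mem _ _ hhe1)

end IsR

end Cfsg.Agent.Lib.Helper45.PSpAut
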