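/-
helper45: the automorphism of `PSp_2m(F)` induced by a semilinear conformal symplectic map
`x ↦ g σ(x)`, and its action on transvections.
-/
import Cfsg.Agent.Lib.Helper45.PSpAut.Trans
import Cfsg.Prelude.Def_LieTypeDatum

set_option autoImplicit false

namespace Cfsg.Agent.Lib.Helper45.PSpAut

open Matrix Cfsg.Agent.Lib.Helper13 Cfsg.Agent.Lib.Helper45.FTPG

/-! ### Descent of an automorphism to the quotient by the centre -/

/-- An automorphism of `G` induces an automorphism of `G ⧸ Z(G)`. -/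
noncomputable def descC {G : Type*} [Group G] : MulAut G →* MulAut (G ⧸ Subgroup.center G) where
  toFun α := QuotientGroup.congr (Subgroup.center _) (Subgroup.center _) α
    (Subgroup.map_equiv_eq_comap_symm' α _ ▸ by
      ext x
      simp only [Subgroup.mem_comap, Subgroup.mem_center_iff]
      constructor
      · intro hx g
        have := hx (α.symm g)
        have := congrArg α this
        simpa using this
      · intro hx g
        have := hx (α g)
        apply α.injective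
        simpa using this)
  map_one' := by
    ext x
    induction x using QuotientGroup.induction_on with
    | H s => rfl
  map_mul' α β := by
    ext x
    induction x using QuotientGroup.induction_on with
    | H s => rfl

theorem descC_mk {G : Type*} [Group G] (α : MulAut G) (s : G) :
    descC α (QuotientGroup.mk s : G ⧸ Subgroup.center G) = QuotientGroup.mk (α s) := rfl

variable {m : ℕ} {F : Type*} [Field F]

/-! ### Field automorphisms applied to vectors and matrices -/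

theorem sympForm_comp (σ : F ≃+* F) (x y : Fin m ⊕ Fin m → F) :
    Cfsg.sympForm m F (fun i => σ (x i)) (fun i => σ (y i)) = σ (Cfsg.sympForm m F x y) := by
  rw [sympForm_eq_sum, sympForm_eq_sum, map_sum]
  apply Finset.sum_congr rfl
  intro i _
  rw [map_sub, map_mul, map_mul]

theorem J_map (σ : F ≃+* F) : (Matrix.J (Fin m) F).map σ = Matrix.J (Fin m) F := by
  ext i j
  rcases i with i | i <;> rcases j with j | j <;>
    simp [Matrix.J, Matrix.map_apply, Matrix.one_apply, apply_ite]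

theorem map_mem_symplecticGroup (σ : F ≃+* F) {A : Matrix (Fin m ⊕ Fin m) (Fin m ⊕ Fin m) F}
    (hA : A ∈ Matrix.symplecticGroup (Fin m) F) : A.map σ ∈ Matrix.symplecticGroup (Fin m) F := by
  rw [SymplecticGroup.mem_iff] at hA ⊢
  have h1 := congrArg (fun M : Matrix (Fin m ⊕ Fin m) (Fin m ⊕ Fin m) F => M.map σ) hA
  simp only [Matrix.map_mul, J_map, Matrix.transpose_map] at h1
  exact h1

theorem map_mulVec (σ : F ≃+* F) (A : Matrix (Fin m ⊕ Fin m) (Fin m ⊕ Fin m) F)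
    (x : Fin m ⊕ Fin m → F) :
    A.map σ *ᵥ (fun i => σ (x i)) = fun i => σ ((A *ᵥ x) i) := by
  ext i
  simp only [Matrix.mulVec, dotProduct, Matrix.map_apply, map_sum, map_mul]

/-! ### Conjugation by a conformal symplectic matrix -/

theorem gl_mulVec_inv_mulVec (g : GL (Fin m ⊕ Fin m) F) (x : Fin m ⊕ Fin m → F) :
    g.1 *ᵥ ((g⁻¹ : GL (Fin m ⊕ Fin m) F).1 *ᵥ x) = x := by
  rw [Matrix.mulVec_mulVec, ← Units.val_mul, mul_inv_cancel, Units.val_one, Matrix.one_mulVec]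

theorem gl_inv_mulVec_mulVec (g : GL (Fin m ⊕ Fin m) F) (x : Fin m ⊕ Fin m → F) :
    (g⁻¹ : GL (Fin m ⊕ Fin m) F).1 *ᵥ (g.1 *ᵥ x) = x := by
  rw [Matrix.mulVec_mulVec, ← Units.val_mul, inv_mul_cancel, Units.val_one, Matrix.one_mulVec]

theorem form_inv_inv {g : GL (Fin m ⊕ Fin m) F} {μ : F}
    (hμ : ∀ u v, Cfsg.sympForm m F (g.1 *ᵥ u) (g.1 *ᵥ v) = μ * Cfsg.sympForm m F u v)
    (x y : Fin m ⊕ Fin m → F) :
    μ * Cfsg.sympForm m F ((g⁻¹ : GL (Fin m ⊕ Fin m) F).1 *ᵥ x)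
      ((g⁻¹ : GL (Fin m ⊕ Fin m) F).1 *ᵥ y) = Cfsg.sympForm m F x y := by
  rw [← hμ, gl_mulVec_inv_mulVec, gl_mulVec_inv_mulVec]

theorem conj_mem_symplecticGroup {g : GL (Fin m ⊕ Fin m) F} (hg : g ∈ Cfsg.GSp m F)
    {A : Matrix (Fin m ⊕ Fin m) (Fin m ⊕ Fin m) F} (hA : A ∈ Matrix.symplecticGroup (Fin m) F) :
    g.1 * A * (g⁻¹ : GL (Fin m ⊕ Fin m) F).1 ∈ Matrix.symplecticGroup (Fin m) F := by
  obtain ⟨μ, hμ⟩ := hg
  rw [mem_symplecticGroup_iff]
  intro u v
  rw [← Matrix.mulVec_mulVec, ← Matrix.mulVec_mulVec, ← Matrix.mulVec_mulVec, ← Matrix.mulVec_mulVec,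
    hμ, sympForm_mulVec_of_mem hA, form_inv_inv hμ]

/-- the endomorphism `s ↦ g σ(s) g⁻¹` of the symplectic group -/
noncomputable def semiHom (g : GL (Fin m ⊕ Fin m) F) (hg : g ∈ Cfsg.GSp m F) (σ : F ≃+* F) :
    Matrix.symplecticGroup (Fin m) F →* Matrix.symplecticGroup (Fin m) F where
  toFun s := ⟨g.1 * s.1.map σ * (g⁻¹ : GL (Fin m ⊕ Fin m) F).1,
    conj_mem_symplecticGroup hg (map_mem_symplecticGroup σ s.2)⟩
  map_one' := by
    apply Subtype.ext
    show g.1 * (1 : Matrix (Fin m ⊕ Fin m) (Fin m ⊕ Fin m) F).map σ * (g⁻¹ : GL (Fin m ⊕ Fin m) F).1 = 1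
    rw [Matrix.map_one _ (map_zero σ) (map_one σ), Matrix.mul_one, ← Units.val_mul, mul_inv_cancel,
      Units.val_one]
  map_mul' s t := by
    apply Subtype.ext
    show g.1 * (s.1 * t.1).map σ * (g⁻¹ : GL (Fin m ⊕ Fin m) F).1 =
      (g.1 * s.1.map σ * (g⁻¹ : GL (Fin m ⊕ Fin m) F).1) *
        (g.1 * t.1.map σ * (g⁻¹ : GL (Fin m ⊕ Fin m) F).1)
    have h1 : (g⁻¹ : GL (Fin m ⊕ Fin m) F).1 * g.1 = 1 := by
      rw [← Units.val_mul, inv_mul_cancel, Units.val_one]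
    rw [Matrix.map_mul]
    calc g.1 * (s.1.map σ * t.1.map σ) * (g⁻¹ : GL (Fin m ⊕ Fin m) F).1
        = g.1 * s.1.map σ * 1 * t.1.map σ * (g⁻¹ : GL (Fin m ⊕ Fin m) F).1 := by
          rw [Matrix.mul_one]
          simp only [Matrix.mul_assoc]
      _ = _ := by
          rw [← h1]
          simp only [Matrix.mul_assoc]

theorem semiHom_coe (g : GL (Fin m ⊕ Fin m) F) (hg : g ∈ Cfsg.GSp m F) (σ : F ≃+* F)
    (s : Matrix.symplecticGroup (Fin m) F) :
    (semiHom g hg σ s).1 = g.1 * s.1.map σ * (g⁻¹ : GL (Fin m ⊕ Fin m) F).1 := rfl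

theorem semiHom_injective (g : GL (Fin m ⊕ Fin m) F) (hg : g ∈ Cfsg.GSp m F) (σ : F ≃+* F) :
    Function.Injective (semiHom g hg σ) := by
  intro s t h
  have h1 := congrArg Subtype.val h
  rw [semiHom_coe, semiHom_coe] at h1
  have h2 : s.1.map σ = t.1.map σ := by
    have h3 := congrArg (fun M => (g⁻¹ : GL (Fin m ⊕ Fin m) F).1 * M * g.1) h1
    have h4 : (g⁻¹ : GL (Fin m ⊕ Fin m) F).1 * g.1 = 1 := by
      rw [← Units.val_mul, inv_mul_cancel, Units.val_one]
    simp only [Matrix.mul_assoc, h4, Matrix.mul_one] at h3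
    simp only [← Matrix.mul_assoc, h4, Matrix.one_mul] at h3
    exact h3
  apply Subtype.ext
  ext i j
  have := congrFun (congrFun h2 i) j
  simp only [Matrix.map_apply] at this
  exact σ.injective this

/-- the automorphism `s ↦ g σ(s) g⁻¹` of the symplectic group over a finite field -/
noncomputable def semiAut [Finite F] (g : GL (Fin m ⊕ Fin m) F) (hg : g ∈ Cfsg.GSp m F)
    (σ : F ≃+* F) : MulAut (Matrix.symplecticGroup (Fin m) F) :=
  MulEquiv.ofBijective (semiHom g hg σ)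
    ⟨semiHom_injective g hg σ, Finite.surjective_of_injective (semiHom_injective g hg σ)⟩

/-- the induced automorphism of `PSp` -/
noncomputable def indAut [Finite F] (g : GL (Fin m ⊕ Fin m) F) (hg : g ∈ Cfsg.GSp m F)
    (σ : F ≃+* F) : MulAut (Cfsg.PSp m F) :=
  descC (semiAut g hg σ)

theorem indAut_mk [Finite F] (g : GL (Fin m ⊕ Fin m) F) (hg : g ∈ Cfsg.GSp m F) (σ : F ≃+* F)
    (s : Matrix.symplecticGroup (Fin m) F) :
    indAut g hg σ (QuotientGroup.mk s) = QuotientGroup.mk (semiHom g hg σ s) := rfl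

theorem isInduced_indAut [Finite F] (g : GL (Fin m ⊕ Fin m) F) (hg : g ∈ Cfsg.GSp m F)
    (σ : F ≃+* F) : Cfsg.IsInducedBySemilinearPSp g σ (indAut g hg σ) := by
  intro s s' h
  rw [indAut_mk]
  congr 1
  apply Subtype.ext
  rw [semiHom_coe, h]

/-- the action of `s ↦ g σ(s) g⁻¹` on a transvection -/
theorem semiHom_tvElt (g : GL (Fin m ⊕ Fin m) F) (hg : g ∈ Cfsg.GSp m F) (σ : F ≃+* F) {μ : F}
    (hμ0 : μ ≠ 0)
    (hμ : ∀ u v, Cfsg.sympForm m F (g.1 *ᵥ u) (g.1 *ᵥ v) = μ * Cfsg.sympForm m F u v)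
    (v : Fin m ⊕ Fin m → F) (c : F) :
    semiHom g hg σ (tvElt v c) = tvElt (g.1 *ᵥ (fun i => σ (v i))) (σ c * μ⁻¹) := by
  apply sp_ext
  intro x
  rw [semiHom_coe, tvElt_mulVec, ← Matrix.mulVec_mulVec, ← Matrix.mulVec_mulVec]
  -- write `g⁻¹ x = σ(y)`
  set y : Fin m ⊕ Fin m → F := fun i => σ.symm (((g⁻¹ : GL (Fin m ⊕ Fin m) F).1 *ᵥ x) i) with hy
  have hy' : (g⁻¹ : GL (Fin m ⊕ Fin m) F).1 *ᵥ x = fun i => σ (y i) := by
    ext i
    rw [hy]
    simp
  rw [hy', map_mulVec, tvElt_mulVec]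
  have h1 : (fun i => σ ((y + (c * Cfsg.sympForm m F y v) • v) i)) =
      (fun i => σ (y i)) + (σ c * Cfsg.sympForm m F (fun i => σ (y i)) (fun i => σ (v i))) •
        (fun i => σ (v i)) := by
    ext i
    rw [sympForm_comp]
    simp only [Pi.add_apply, Pi.smul_apply, smul_eq_mul, map_add, map_mul]
  rw [h1, ← hy', Matrix.mulVec_add, gl_mulVec_inv_mulVec, Matrix.mulVec_smul]
  congr 2
  have h2 := form_inv_inv hμ x (g.1 *ᵥ (fun i => σ (v i)))
  rw [gl_inv_mulVec_mulVec] at h2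
  rw [← h2]
  field_simp

theorem indAut_tbar [Finite F] (g : GL (Fin m ⊕ Fin m) F) (hg : g ∈ Cfsg.GSp m F) (σ : F ≃+* F)
    {μ : F} (hμ0 : μ ≠ 0)
    (hμ : ∀ u v, Cfsg.sympForm m F (g.1 *ᵥ u) (g.1 *ᵥ v) = μ * Cfsg.sympForm m F u v)
    (v : Fin m ⊕ Fin m → F) (c : F) :
    indAut g hg σ (tbar v c) = tbar (g.1 *ᵥ (fun i => σ (v i))) (σ c * μ⁻¹) := by
  unfold tbar
  rw [indAut_mk, semiHom_tvElt g hg σ hμ0 hμ]

end Cfsg.Agent.Lib.Helper45.PSpAut
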