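/-
helper45: an automorphism of `PSp_2m(F)` which preserves the set of transvection images induces a
collineation of the underlying projective space preserving perpendicularity.
-/
import Cfsg.Agent.Lib.Helper45.PSpAut.Trans

set_option autoImplicit false

namespace Cfsg.Agent.Lib.Helper45.PSpAut

open Matrix Cfsg.Agent.Lib.Helper13 Cfsg.Agent.Lib.Helper45.FTPG

variable {m : ℕ} {F : Type*} [Field F]

/-- every automorphism of `PSp_2m(F)` maps transvection images to transvection images -/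
def AutPresT (m : ℕ) (F : Type*) [Field F] : Prop :=
  ∀ (β : MulAut (Cfsg.PSp m F)) (x : Cfsg.PSp m F), IsT x → IsT (β x)

/-- the map on vectors underlying the action of `β` on transvection groups -/
noncomputable def pmap (hT : AutPresT m F) (β : MulAut (Cfsg.PSp m F)) (v : Fin m ⊕ Fin m → F) :
    Fin m ⊕ Fin m → F := by
  classical
  exact if h : v = 0 then 0 else Classical.choose (hT β _ ⟨v, 1, h, one_ne_zero, rfl⟩)

theorem pmap_spec (hT : AutPresT m F) (β : MulAut (Cfsg.PSp m F)) {v : Fin m ⊕ Fin m → F}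
    (hv : v ≠ 0) :
    pmap hT β v ≠ 0 ∧ ∃ d : F, d ≠ 0 ∧ β (tbar v 1) = tbar (pmap hT β v) d := by
  classical
  have h := Classical.choose_spec (hT β _ ⟨v, 1, hv, one_ne_zero, rfl⟩)
  obtain ⟨d, h1, h2, h3⟩ := h
  have hp : pmap hT β v = Classical.choose (hT β _ ⟨v, 1, hv, one_ne_zero, rfl⟩) := by
    unfold pmap
    rw [dif_neg hv]
  rw [hp]
  exact ⟨h1, d, h2, h3⟩

theorem pmap_ne_zero (hT : AutPresT m F) (β : MulAut (Cfsg.PSp m F)) {v : Fin m ⊕ Fin m → F}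
    (hv : v ≠ 0) : pmap hT β v ≠ 0 := (pmap_spec hT β hv).1

theorem pmap_tbar (hm : 2 ≤ m) (hT : AutPresT m F) (β : MulAut (Cfsg.PSp m F))
    {v : Fin m ⊕ Fin m → F} (hv : v ≠ 0) {c : F} (hc : c ≠ 0) :
    ∃ d : F, d ≠ 0 ∧ β (tbar v c) = tbar (pmap hT β v) d := by
  obtain ⟨hp0, d₁, hd₁, h1⟩ := pmap_spec hT β hv
  obtain ⟨w, d', hw, hd', h2⟩ := hT β _ ⟨v, c, hv, hc, rfl⟩
  have h3 : ∃ (u : Fin m ⊕ Fin m → F) (e : F),
      tbar (pmap hT β v) d₁ * tbar w d' = tbar u e := by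
    rw [← h1, ← h2, ← map_mul, tbar_mul]
    by_cases h0 : (1 : F) + c = 0
    · refine ⟨0, 0, ?_⟩
      rw [h0, tbar_zero, tbar_zero, map_one]
    · obtain ⟨u, e, -, -, h4⟩ := hT β _ ⟨v, 1 + c, hv, h0, rfl⟩
      exact ⟨u, e, h4⟩
  obtain ⟨u, e, h3⟩ := h3
  have h5 := not_I2_of_tbar_mul hm hd₁ hd' h3
  obtain ⟨d'', hd'', h6⟩ := tbar_of_par (par_of_not_I2 hp0 hw h5) hd'
  exact ⟨d'', hd'', by rw [h2, h6]⟩

theorem pmap_perp (hm : 2 ≤ m) (hT : AutPresT m F) (β : MulAut (Cfsg.PSp m F))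
    {v w : Fin m ⊕ Fin m → F} (hv : v ≠ 0) (hw : w ≠ 0) :
    Cfsg.sympForm m F v w = 0 ↔ Cfsg.sympForm m F (pmap hT β v) (pmap hT β w) = 0 := by
  obtain ⟨-, d₁, hd₁, h1⟩ := pmap_spec hT β hv
  obtain ⟨-, d₂, hd₂, h2⟩ := pmap_spec hT β hw
  rw [← tbar_comm_iff hm (one_ne_zero (α := F)) (one_ne_zero (α := F)),
    ← tbar_comm_iff hm hd₁ hd₂, ← h1, ← h2, ← map_mul, ← map_mul]
  exact ⟨fun h => by rw [h], fun h => β.injective h⟩

theorem pmap_surj (hm : 2 ≤ m) (hT : AutPresT m F) (β : MulAut (Cfsg.PSp m F))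
    {w : Fin m ⊕ Fin m → F} (hw : w ≠ 0) :
    ∃ v : Fin m ⊕ Fin m → F, v ≠ 0 ∧ Par (K := F) (pmap hT β v) w := by
  obtain ⟨v, c, hv, hc, h1⟩ := hT β⁻¹ _ ⟨w, 1, hw, one_ne_zero, rfl⟩
  obtain ⟨d, hd, h2⟩ := pmap_tbar hm hT β hv hc
  have h3 : tbar w (1 : F) = tbar (pmap hT β v) d := by
    rw [← h2, ← h1]
    simp
  exact ⟨v, hv, par_of_tbar_eq hm hw (pmap_ne_zero hT β hv) one_ne_zero hd h3⟩

theorem form_eq_zero_of_par_left {a b c : Fin m ⊕ Fin m → F} (h : Par (K := F) a b) :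
    Cfsg.sympForm m F a c = 0 ↔ Cfsg.sympForm m F b c = 0 := by
  obtain ⟨k, hk, rfl⟩ := h
  rw [sympForm_smul_left, mul_eq_zero]
  exact ⟨fun h => h.resolve_left hk, Or.inr⟩

theorem form_eq_zero_of_par_right {a b c : Fin m ⊕ Fin m → F} (h : Par (K := F) a b) :
    Cfsg.sympForm m F c a = 0 ↔ Cfsg.sympForm m F c b = 0 := by
  obtain ⟨k, hk, rfl⟩ := h
  rw [sympForm_smul_right, mul_eq_zero]
  exact ⟨fun h => h.resolve_left hk, Or.inr⟩

/-- the point map is a collineation -/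
theorem isColl_pmap (hm : 2 ≤ m) (hT : AutPresT m F) (β : MulAut (Cfsg.PSp m F)) :
    IsColl (K := F) (pmap hT β) where
  ne_zero := fun _ hx => pmap_ne_zero hT β hx
  col := by
    intro x y z hx hy hz
    rw [sp2_iff_perp, sp2_iff_perp]
    constructor
    · intro h s' hs'x hs'y
      by_cases hs' : s' = 0
      · rw [hs', sympForm_zero_left]
      · obtain ⟨s, hs, hpar⟩ := pmap_surj hm hT β hs'
        rw [← form_eq_zero_of_par_left hpar] at hs'x hs'y ⊢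
        rw [← pmap_perp hm hT β hs hx] at hs'x
        rw [← pmap_perp hm hT β hs hy] at hs'y
        rw [← pmap_perp hm hT β hs hz]
        exact h s hs'x hs'y
    · intro h s hsx hsy
      by_cases hs : s = 0
      · rw [hs, sympForm_zero_left]
      · rw [pmap_perp hm hT β hs hx] at hsx
        rw [pmap_perp hm hT β hs hy] at hsy
        rw [pmap_perp hm hT β hs hz]
        exact h _ hsx hsy

end Cfsg.Agent.Lib.Helper45.PSpAut
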