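/-
helper45: automorphisms of `PSp_2m(F)` preserve transvection images (odd characteristic), by the
Sylow argument: the centre of a Sylow `p`-subgroup consists of transvection images.
-/
import Cfsg.Agent.Lib.Helper45.PSpAut.Central
import Cfsg.Agent.Lib.Helper45.PSpAut.Induced
import Cfsg.Agent.Lib.Helper45.PSpAut.Points

set_option autoImplicit false

namespace Cfsg.Agent.Lib.Helper45.PSpAut

open Matrix Cfsg.Agent.Lib.Helper13 Cfsg.Agent.Lib.Helper45.FTPG Cfsg.Agent.Lib.Helper45.PSLAut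
open scoped Pointwise

variable {m : ℕ} {F : Type*} [Field F]

/-! ### The diagonal conformal symplectic matrices `diag(λ, …, λ, 1, …, 1)` -/

/-- the matrix `diag(λ I, I)` -/
noncomputable def dlam (l : F) (hl : l ≠ 0) : GL (Fin m ⊕ Fin m) F :=
  Matrix.GeneralLinearGroup.mkOfDetNeZero
    (Matrix.diagonal (Sum.elim (fun _ : Fin m => l) (fun _ : Fin m => (1 : F)))) (by
      rw [Matrix.det_diagonal, Finset.prod_ne_zero_iff]
      intro i _
      rcases i with i | i
      · exact hl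
      · exact one_ne_zero)

theorem dlam_mulVec (l : F) (hl : l ≠ 0) (x : Fin m ⊕ Fin m → F) :
    (dlam (m := m) l hl).1 *ᵥ x = fun i => Sum.elim (fun _ : Fin m => l) (fun _ : Fin m => (1 : F)) i * x i := by
  show Matrix.diagonal _ *ᵥ x = _
  ext i
  rw [Matrix.mulVec_diagonal]

theorem dlam_form (l : F) (hl : l ≠ 0) (u v : Fin m ⊕ Fin m → F) :
    Cfsg.sympForm m F ((dlam (m := m) l hl).1 *ᵥ u) ((dlam (m := m) l hl).1 *ᵥ v) =
      l * Cfsg.sympForm m F u v := by
  rw [dlam_mulVec, dlam_mulVec, sympForm_eq_sum, sympForm_eq_sum, Finset.mul_sum]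
  apply Finset.sum_congr rfl
  intro i _
  simp only [Sum.elim_inl, Sum.elim_inr]
  ring

theorem dlam_mem (l : F) (hl : l ≠ 0) : dlam (m := m) l hl ∈ Cfsg.GSp m F :=
  ⟨Units.mk0 l hl, fun u v => dlam_form l hl u v⟩

theorem dlam_eL (l : F) (hl : l ≠ 0) (i : Fin m) :
    (dlam (m := m) l hl).1 *ᵥ (eL i) = l • eL i := by
  rw [dlam_mulVec]
  ext k
  rcases k with k | k
  · simp only [Sum.elim_inl, Pi.smul_apply, smul_eq_mul]
  · simp only [Sum.elim_inr, Pi.smul_apply, smul_eq_mul, eL_inr, mul_zero]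

/-- every transvection image is the image of a fixed one under some automorphism -/
theorem exists_aut_map_tbar [Finite F] (i₀ : Fin m) {v : Fin m ⊕ Fin m → F} (hv : v ≠ 0) {c c₀ : F}
    (hc : c ≠ 0) (hc₀ : c₀ ≠ 0) :
    ∃ δ : MulAut (Cfsg.PSp m F), δ (tbar (eL i₀) c₀) = tbar v c := by
  obtain ⟨s, hs⟩ := Cfsg.Agent.Lib.Helper5.symplecticGroup_transitive (eL_ne_zero (F := F) i₀) hv
  have hl : c / c₀ ≠ 0 := div_ne_zero hc hc₀
  refine ⟨MulAut.conj (QuotientGroup.mk s) *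
    indAut (dlam (c / c₀) hl) (dlam_mem _ hl) (RingEquiv.refl F), ?_⟩
  rw [MulAut.mul_apply, indAut_tbar _ _ _ hl (dlam_form _ hl)]
  simp only [RingEquiv.refl_apply]
  rw [dlam_eL, tbar_smul, MulAut.conj_apply, conj_tbar]
  have hs' : s.1 *ᵥ (eL i₀) = v := hs
  rw [hs']
  congr 1
  field_simp

/-! ### The Sylow subgroup -/

/-- a Sylow `p`-subgroup of `PSp` whose centre consists of transvection images (`p` odd) -/
theorem exists_sylow_center_odd [Fintype F] (hm : 2 ≤ m) (p : ℕ) [Fact p.Prime] [CharP F p]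
    (hp : p ≠ 2) :
    ∃ P : Sylow p (Cfsg.PSp m F), tbar (eL (F := F) ⟨0, by omega⟩) 1 ∈ P ∧
      ∀ z ∈ P, (∀ y ∈ P, z * y = y * z) → ∃ β : F, z = tbar (eL ⟨0, by omega⟩) β := by
  have hU : IsPGroup p ((UUsp m F).map
      (QuotientGroup.mk' (Subgroup.center (Matrix.symplecticGroup (Fin m) F)))) :=
    (isPGroup_UUsp p).map _
  obtain ⟨P, hP⟩ := hU.exists_le_sylow
  have h2 : (2 : F) ≠ 0 := by
    intro h0
    have h1 : ((2 : ℕ) : F) = 0 := by exact_mod_cast h0
    rw [CharP.cast_eq_zero_iff F p] at h1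
    exact hp ((Nat.prime_dvd_prime_iff_eq (Fact.out : p.Prime) Nat.prime_two).mp h1)
  refine ⟨P, ?_, ?_⟩
  · apply hP
    exact Subgroup.mem_map_of_mem _ (tvElt_mem_UUsp (inE_eL _) 1)
  · intro z hz hcomm
    obtain ⟨z₀, rfl⟩ := QuotientGroup.mk_surjective z
    have hcomm' : ∀ u ∈ UUsp m F, z₀ * u = u * z₀ := by
      intro u hu
      obtain ⟨k, hk⟩ := (isPGroup_UUsp (m := m) (F := F) p) ⟨u, hu⟩
      have hk' : u ^ (p ^ k) = 1 := by
        have := congrArg Subtype.val hk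
        simpa using this
      apply comm_of_mk_comm (by omega) p hk'
      exact hcomm _ (hP (Subgroup.mem_map_of_mem _ hu))
    obtain ⟨z', hz'Q, hz'mk, hz'comm⟩ := exists_QQ_rep hm
      (fun v hv => hcomm' _ (tvElt_mem_UUsp hv 1))
    obtain ⟨β, hβ⟩ := QQ_centralizer_odd hm h2 hz'Q
      (fun i j hij => hz'comm _ (hcomm' _ (aij_mem hij)))
    refine ⟨β, ?_⟩
    rw [← hz'mk, hβ]
    rfl

/-- **Automorphisms of `PSp_2m(F)` preserve transvection images** (odd characteristic). -/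
theorem autPresT_odd [Fintype F] (hm : 2 ≤ m) (p : ℕ) [Fact p.Prime] [CharP F p] (hp : p ≠ 2) :
    AutPresT m F := by
  obtain ⟨P, ht₁, hcenter⟩ := exists_sylow_center_odd (F := F) hm p hp
  set i₀ : Fin m := ⟨0, by omega⟩ with hi₀
  -- a non-trivial central element of `P`
  have hPnt : Nontrivial (P : Subgroup (Cfsg.PSp m F)) := by
    refine ⟨⟨⟨tbar (eL i₀) 1, ht₁⟩, 1, ?_⟩⟩
    intro h
    have := congrArg Subtype.val h
    exact tbar_ne_one hm (eL_ne_zero i₀) one_ne_zero this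
  have hbot := (P.2 : IsPGroup p (P : Subgroup (Cfsg.PSp m F))).bot_lt_center
  obtain ⟨w, hwc, hw1⟩ := SetLike.exists_of_lt hbot
  have hw1' : (w : Cfsg.PSp m F) ≠ 1 := by
    intro h
    apply hw1
    rw [Subgroup.mem_bot]
    exact Subtype.ext h
  have hwcomm : ∀ y ∈ P, (w : Cfsg.PSp m F) * y = y * w := by
    intro y hy
    have := Subgroup.mem_center_iff.mp hwc ⟨y, hy⟩
    exact (congrArg Subtype.val this).symm
  obtain ⟨c₀, hc₀⟩ := hcenter w w.2 hwcomm
  have hc₀0 : c₀ ≠ 0 := by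
    rintro rfl
    rw [tbar_zero] at hc₀
    exact hw1' hc₀
  -- key: the image of this element under any automorphism
  have key : ∀ β : MulAut (Cfsg.PSp m F), IsT (β (tbar (eL i₀) c₀)) := by
    intro β
    obtain ⟨g, hg⟩ := MulAction.exists_smul_eq (Cfsg.PSp m F) (β • P) P
    have hg' : MulAut.conj g • (β • (P : Subgroup (Cfsg.PSp m F))) = P := by
      have := congrArg (fun Q : Sylow p (Cfsg.PSp m F) => (Q : Subgroup (Cfsg.PSp m F))) hg
      simpa [Sylow.coe_subgroup_smul, Sylow.pointwise_smul_def] using this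
    set γ : MulAut (Cfsg.PSp m F) := MulAut.conj g * β with hγ
    have hγmem : ∀ u ∈ P, γ u ∈ P := by
      intro u hu
      have h1 : γ u ∈ MulAut.conj g • (β • (P : Subgroup (Cfsg.PSp m F))) :=
        Subgroup.smul_mem_pointwise_smul _ _ _ (Subgroup.smul_mem_pointwise_smul _ _ _ hu)
      rw [hg'] at h1
      exact h1
    have hγsurj : ∀ u' ∈ P, ∃ u ∈ P, γ u = u' := by
      intro u' hu'
      have h1 : u' ∈ MulAut.conj g • (β • (P : Subgroup (Cfsg.PSp m F))) := by
        rw [hg']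
        exact hu'
      rw [Subgroup.mem_pointwise_smul_iff_inv_smul_mem,
        Subgroup.mem_pointwise_smul_iff_inv_smul_mem] at h1
      refine ⟨_, h1, ?_⟩
      simp only [hγ, MulAut.smul_def, MulAut.mul_apply, MulAut.apply_inv_self]
    have hw' : tbar (eL i₀) c₀ ∈ P := by
      rw [← hc₀]
      exact w.2
    obtain ⟨c', hc'⟩ := hcenter _ (hγmem _ hw') (by
      intro u' hu'
      obtain ⟨u, hu, rfl⟩ := hγsurj u' hu'
      rw [← map_mul, ← map_mul, ← hc₀, hwcomm u hu])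
    have hc'0 : c' ≠ 0 := by
      rintro rfl
      rw [tbar_zero] at hc'
      have h1 : tbar (eL i₀) c₀ = 1 := by
        apply γ.injective
        rw [hc', map_one]
      exact tbar_ne_one hm (eL_ne_zero i₀) hc₀0 h1
    have hβ : β (tbar (eL i₀) c₀) = (MulAut.conj g)⁻¹ (tbar (eL i₀) c') := by
      rw [← hc', hγ, MulAut.mul_apply, ← MulAut.mul_apply, inv_mul_cancel, MulAut.one_apply]
    rw [hβ, ← map_inv]
    obtain ⟨s, rfl⟩ := QuotientGroup.mk_surjective g
    rw [← QuotientGroup.mk_inv, MulAut.conj_apply, conj_tbar]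
    exact ⟨_, c', sp_mulVec_ne_zero _ (eL_ne_zero i₀), hc'0, rfl⟩
  intro β x hx
  obtain ⟨v, c, hv, hc, rfl⟩ := hx
  obtain ⟨δ, hδ⟩ := exists_aut_map_tbar i₀ hv hc hc₀0
  rw [← hδ, ← MulAut.mul_apply]
  exact key _

end Cfsg.Agent.Lib.Helper45.PSpAut
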