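/-
helper45: automorphisms of `PSp_2m(F)` preserve transvection images in characteristic two (`m ≥ 3`):
a transvection is `2`-central with centraliser of order `|Sp| / (q^(2m) - 1)`, while the other
elements in the centre of a Sylow `2`-subgroup have strictly smaller centralisers.
-/
import Cfsg.Agent.Lib.Helper45.PSpAut.Even1
import Cfsg.Agent.Lib.Helper45.PSpAut.SylowOdd
import Cfsg.Agent.Lib.Helper43.SpTransvection
import Cfsg.Agent.S0775

set_option autoImplicit false

namespace Cfsg.Agent.Lib.Helper45.PSpAut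

open Matrix Cfsg.Agent.Lib.Helper13 Cfsg.Agent.Lib.Helper45.FTPG Cfsg.Agent.Lib.Helper45.PSLAut
open scoped Pointwise

variable {m : ℕ} {F : Type*} [Field F]

/-! ### Arithmetic -/

theorem arith_aux (q n : ℕ) (hq : 2 ≤ q) (S C : ℕ)
    (hS : S = q ^ (2 * (2 + 1) / 2 + 2 * 2 * (n + 3 - 2)) *
      (q ^ ((n + 3 - 2) ^ 2) * ∏ i ∈ Finset.range (n + 3 - 2), (q ^ (2 * (i + 1)) - 1)) *
      ∏ i : Fin 2, (q ^ 2 - q ^ (i : ℕ)))
    (hC : C * (q ^ (2 * (n + 3)) - 1) =
      q ^ ((n + 3) ^ 2) * ∏ i ∈ Finset.range (n + 3), (q ^ (2 * (i + 1)) - 1)) : S < C := by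
  have hq0 : 0 < q := by omega
  set P : ℕ := ∏ i ∈ Finset.range (n + 1), (q ^ (2 * (i + 1)) - 1) with hP
  have hPpos : 0 < P := by
    apply Finset.prod_pos
    intro i _
    have : 1 < q ^ (2 * (i + 1)) := Nat.one_lt_pow (by omega) (by omega)
    omega
  obtain ⟨u, hu⟩ : ∃ u, u + 1 = q ^ 2 := ⟨q ^ 2 - 1, by
    have : 1 ≤ q ^ 2 := Nat.one_le_pow _ _ hq0
    omega⟩
  obtain ⟨w, hw⟩ : ∃ w, w + 1 = q := ⟨q - 1, by omega⟩
  obtain ⟨A, hA⟩ : ∃ A, A + 1 = q ^ (2 * (n + 1 + 1)) := ⟨q ^ (2 * (n + 1 + 1)) - 1, by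
    have : 1 ≤ q ^ (2 * (n + 1 + 1)) := Nat.one_le_pow _ _ hq0
    omega⟩
  obtain ⟨A2, hA2⟩ : ∃ A2, A2 + 1 = q ^ (2 * (n + 3)) := ⟨q ^ (2 * (n + 3)) - 1, by
    have : 1 ≤ q ^ (2 * (n + 3)) := Nat.one_le_pow _ _ hq0
    omega⟩
  have hA2pos : 0 < A2 := by
    have : 1 < q ^ (2 * (n + 3)) := Nat.one_lt_pow (by omega) (by omega)
    omega
  have e1 : q ^ 2 - q ^ ((0 : Fin 2) : ℕ) = u := by
    simp only [Fin.val_zero, pow_zero]
    omega
  have e2 : q ^ 2 - q ^ ((1 : Fin 2) : ℕ) = q * w := by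
    simp only [Fin.val_one, pow_one]
    have : q ^ 2 = q * w + q := by rw [← hw]; ring
    omega
  have e3 : q ^ (2 * (n + 1 + 1)) - 1 = A := by omega
  have e4 : q ^ (2 * (n + 3)) - 1 = A2 := by omega
  have hC' : C = q ^ ((n + 3) ^ 2) * (P * A) := by
    rw [Finset.prod_range_succ, Finset.prod_range_succ, ← hP, e3] at hC
    have e5 : q ^ (2 * (n + 1 + 1 + 1)) - 1 = A2 := by
      have : 2 * (n + 1 + 1 + 1) = 2 * (n + 3) := by ring
      rw [this]
      exact e4
    rw [e5] at hC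
    apply Nat.eq_of_mul_eq_mul_right hA2pos
    rw [hC]
    ring
  have hS' : S = q ^ (3 + 4 * (n + 1)) * (q ^ ((n + 1) ^ 2) * P) * (u * (q * w)) := by
    rw [hS, Fin.prod_univ_two, e1, e2]
    have h1 : n + 3 - 2 = n + 1 := by omega
    have h2 : 2 * (2 + 1) / 2 = 3 := by norm_num
    rw [h1, h2, ← hP]
  have key : u * w < A := by
    have h1 : w ≤ u := by
      have : q ≤ q ^ 2 := by nlinarith
      omega
    have h2 : 1 ≤ u := by
      have : 4 ≤ q ^ 2 := by nlinarith
      omega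
    have h3 : q ^ 4 ≤ q ^ (2 * (n + 1 + 1)) := Nat.pow_le_pow_right hq0 (by omega)
    have h4 : q ^ 4 = (u + 1) ^ 2 := by rw [hu]; ring
    have h5 : u * w ≤ u * u := Nat.mul_le_mul_left u h1
    nlinarith
  rw [hS', hC']
  have hpos : 0 < q ^ (3 + 4 * (n + 1)) * q ^ ((n + 1) ^ 2) * q * P := by positivity
  calc q ^ (3 + 4 * (n + 1)) * (q ^ ((n + 1) ^ 2) * P) * (u * (q * w))
      = (q ^ (3 + 4 * (n + 1)) * q ^ ((n + 1) ^ 2) * q * P) * (u * w) := by ring
    _ < (q ^ (3 + 4 * (n + 1)) * q ^ ((n + 1) ^ 2) * q * P) * A :=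
        Nat.mul_lt_mul_of_pos_left key hpos
    _ = q ^ ((n + 3) ^ 2) * (P * A) := by ring

/-! ### Characteristic two: `Sp → PSp` is bijective -/

theorem neg_one_eq_one_of_char_two [CharP F 2] : (-1 : F) = 1 := by
  have h2 : (2 : F) = 0 := by
    have := CharP.cast_eq_zero F 2
    exact_mod_cast this
  linear_combination (-1 : F) * h2

theorem mk_injective_char_two (hm : 1 ≤ m) [CharP F 2] :
    Function.Injective (QuotientGroup.mk' (Subgroup.center (Matrix.symplecticGroup (Fin m) F))) := by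
  intro a b h
  obtain ⟨ε, hε, hab⟩ := exists_sign_of_mk_eq hm h
  have hε1 : ε = 1 := by
    rcases hε with h1 | h1
    · exact h1
    · rw [h1]
      exact neg_one_eq_one_of_char_two
  apply sp_ext
  intro x
  rw [hab x, hε1, one_smul]

theorem mk_bijective_char_two (hm : 1 ≤ m) [CharP F 2] :
    Function.Bijective (QuotientGroup.mk' (Subgroup.center (Matrix.symplecticGroup (Fin m) F))) :=
  ⟨mk_injective_char_two hm, QuotientGroup.mk'_surjective _⟩

/-- centralisers correspond under a bijective homomorphism -/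
theorem card_centralizer_of_bijective {G H : Type*} [Group G] [Group H] (e : G →* H)
    (he : Function.Bijective e) (x : G) :
    Nat.card (Subgroup.centralizer ({e x} : Set H)) =
      Nat.card (Subgroup.centralizer ({x} : Set G)) := by
  symm
  apply Nat.card_congr
  refine (Equiv.ofBijective e he).subtypeEquiv ?_
  intro a
  show a ∈ Subgroup.centralizer ({x} : Set G) ↔ e a ∈ Subgroup.centralizer ({e x} : Set H)
  rw [Subgroup.mem_centralizer_singleton_iff, Subgroup.mem_centralizer_singleton_iff, ← map_mul,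
    ← map_mul]
  exact ⟨fun h => by rw [h], fun h => he.1 h⟩

/-! ### Centraliser orders -/

theorem card_centralizer_tvElt [Fintype F] [CharP F 2] {w : Fin m ⊕ Fin m → F} (hw : w ≠ 0) :
    Nat.card (Subgroup.centralizer ({tvElt w 1} : Set (Matrix.symplecticGroup (Fin m) F))) *
      (Fintype.card F ^ (2 * m) - 1) = Nat.card (Matrix.symplecticGroup (Fin m) F) := by
  have h1 := Cfsg.Agent.Lib.Helper43.centralizer_sympTransvec_eq (l := Fin m) (tvElt w (1 : F)) hw
    (one_ne_zero (α := F)) rfl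
  have h2 := Cfsg.Agent.Lib.Helper43.card_stabilizer_spVec_mul (l := Fin m) hw
  rw [Fintype.card_fin] at h2
  rw [h1, h2]

theorem card_centralizer_lt [Fintype F] [CharP F 2] (hm : 3 ≤ m) {i₀ i₁ : Fin m} (h01 : i₀ ≠ i₁)
    {β b : F} {z : Matrix.symplecticGroup (Fin m) F} (hz : IsR i₀ i₁ β b z) (hb : b ≠ 0)
    {w : Fin m ⊕ Fin m → F} (hw : w ≠ 0) :
    Nat.card (Subgroup.centralizer ({z} : Set (Matrix.symplecticGroup (Fin m) F))) <
      Nat.card (Subgroup.centralizer ({tvElt w 1} : Set (Matrix.symplecticGroup (Fin m) F))) := by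
  have h1 := Subgroup.card_le_of_le (hz.centralizer_le h01 hb)
  have h2 := Cfsg.Agent.S0775.result (F := F) rfl m 2 (by omega) (lineW i₀ i₁) (finrank_lineW h01)
    lineW_isotropic
  have h3 := card_centralizer_tvElt (m := m) (F := F) hw
  rw [Cfsg.Agent.Lib.Helper5.card_symplecticGroup] at h3
  obtain ⟨n, rfl⟩ : ∃ n, m = n + 3 := ⟨m - 3, by omega⟩
  have hq : 2 ≤ Fintype.card F := Fintype.one_lt_card
  exact lt_of_le_of_lt h1 (arith_aux (Fintype.card F) n hq _ _ h2 h3)

/-! ### The Sylow subgroup -/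

/-- the stabiliser of the vector `e_i` -/
def fixSub (i : Fin m) : Subgroup (Matrix.symplecticGroup (Fin m) F) where
  carrier := {s | s.1 *ᵥ (eL i) = eL i}
  mul_mem' := fun {a b} ha hb => by
    show (a * b).1 *ᵥ (eL i) = eL i
    rw [sp_mul_mulVec, hb, ha]
  one_mem' := sp_one_mulVec _
  inv_mem' := fun {a} ha => by
    show (a⁻¹).1 *ᵥ (eL i) = eL i
    conv_lhs => rw [← ha]
    exact sp_inv_mulVec_mulVec a _

theorem UUsp_le_fixSub [Finite F] (hm : 1 ≤ m) : UUsp m F ≤ fixSub ⟨0, by omega⟩ := by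
  apply sup_le
  · rintro a ⟨A, hA, rfl⟩
    show (leviSL A).1 *ᵥ (eL ⟨0, by omega⟩) = eL ⟨0, by omega⟩
    rw [leviSL_coe]
    unfold eL
    rw [Matrix.mulVec_single_one]
    ext c
    rcases c with l | l
    · show (A : Matrix (Fin m) (Fin m) F) l ⟨0, by omega⟩ = _
      rw [mem_UU.mp hA l ⟨0, by omega⟩ (by rw [Fin.le_def]; exact Nat.zero_le _), Pi.single_apply,
        Matrix.one_apply]
      simp only [Sum.inl.injEq]
    · show (0 : Matrix (Fin m) (Fin m) F) l ⟨0, by omega⟩ = _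
      rw [Pi.single_apply, if_neg (by simp)]
      rfl
  · intro s hs
    exact hs _ (inE_eL _)

theorem comm_of_fix {s : Matrix.symplecticGroup (Fin m) F} {v : Fin m ⊕ Fin m → F}
    (h : s.1 *ᵥ v = v) (c : F) : s * tvElt v c = tvElt v c * s := by
  have := conj_tvElt s v c
  rw [h] at this
  calc s * tvElt v c = (s * tvElt v c * s⁻¹) * s := by rw [inv_mul_cancel_right]
    _ = tvElt v c * s := by rw [this]

/-- a Sylow `2`-subgroup containing the image of `UUsp` and centralising a transvection -/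
theorem exists_sylow_even [Fintype F] [CharP F 2] (hm : 2 ≤ m) :
    ∃ P : Sylow 2 (Cfsg.PSp m F),
      (UUsp m F).map (QuotientGroup.mk' (Subgroup.center (Matrix.symplecticGroup (Fin m) F))) ≤ P ∧
      ∀ y ∈ P, y * tbar (eL (F := F) ⟨0, by omega⟩) 1 = tbar (eL ⟨0, by omega⟩) 1 * y := by
  set i₀ : Fin m := ⟨0, by omega⟩ with hi₀
  set t₀ : Cfsg.PSp m F := tbar (eL i₀) 1 with ht₀
  set C : Subgroup (Cfsg.PSp m F) := Subgroup.centralizer {t₀} with hC
  set Ubar : Subgroup (Cfsg.PSp m F) :=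
    (UUsp m F).map (QuotientGroup.mk' (Subgroup.center (Matrix.symplecticGroup (Fin m) F))) with hU
  have hUC : Ubar ≤ C := by
    rintro _ ⟨u, hu, rfl⟩
    rw [hC, Subgroup.mem_centralizer_singleton_iff]
    have h1 : u.1 *ᵥ (eL i₀) = eL i₀ := UUsp_le_fixSub (by omega) hu
    have h2 := comm_of_fix h1 (1 : F)
    show (QuotientGroup.mk u : Cfsg.PSp m F) * QuotientGroup.mk (tvElt (eL i₀) 1) =
      QuotientGroup.mk (tvElt (eL i₀) 1) * QuotientGroup.mk u
    rw [← QuotientGroup.mk_mul, ← QuotientGroup.mk_mul, h2]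
  have hUp : IsPGroup 2 Ubar := (isPGroup_UUsp 2).map _
  have hUp' : IsPGroup 2 (Ubar.subgroupOf C) := hUp.comap_subtype
  obtain ⟨S, hS⟩ := hUp'.exists_le_sylow
  set P' : Subgroup (Cfsg.PSp m F) := (S : Subgroup C).map C.subtype with hP'
  have hP'p : IsPGroup 2 P' := S.2.map _
  -- the index of `C` is odd
  have hCidx : C.index = Fintype.card F ^ (2 * m) - 1 := by
    have h1 := Subgroup.index_mul_card C
    have h2 : Nat.card C = Nat.card (Subgroup.centralizer
        ({tvElt (eL i₀) (1 : F)} : Set (Matrix.symplecticGroup (Fin m) F))) :=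
      card_centralizer_of_bijective _ (mk_bijective_char_two (by omega)) _
    have h3 : Nat.card (Cfsg.PSp m F) = Nat.card (Matrix.symplecticGroup (Fin m) F) :=
      (Nat.card_congr (Equiv.ofBijective _ (mk_bijective_char_two (F := F) (m := m) (by omega)))).symm
    have h4 := card_centralizer_tvElt (m := m) (F := F) (eL_ne_zero i₀)
    rw [h2, h3, ← h4, mul_comm] at h1
    exact Nat.eq_of_mul_eq_mul_left Nat.card_pos h1
  have h2q : 2 ∣ Fintype.card F := by
    obtain ⟨n, -, hn⟩ := FiniteField.card F 2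
    rw [hn]
    exact dvd_pow_self 2 n.ne_zero
  have hodd : ¬ 2 ∣ Fintype.card F ^ (2 * m) - 1 := by
    have h1 : 2 ∣ Fintype.card F ^ (2 * m) := dvd_pow h2q (by omega)
    have h2 : 1 ≤ Fintype.card F ^ (2 * m) := Nat.one_le_pow _ _ Fintype.card_pos
    omega
  have hidx : ¬ 2 ∣ P'.index := by
    rw [hP', Subgroup.index_map_subtype, hCidx]
    exact Nat.Prime.not_dvd_mul Nat.prime_two S.not_dvd_index hodd
  refine ⟨hP'p.toSylow hidx, ?_, ?_⟩
  · intro x hx
    show x ∈ P'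
    rw [hP', Subgroup.mem_map]
    exact ⟨⟨x, hUC hx⟩, hS (Subgroup.mem_subgroupOf.mpr hx), rfl⟩
  · intro y hy
    have hy' : y ∈ P' := hy
    rw [hP', Subgroup.mem_map] at hy'
    obtain ⟨y', -, rfl⟩ := hy'
    have h1 : (y' : Cfsg.PSp m F) ∈ Subgroup.centralizer {t₀} := y'.2
    rw [Subgroup.mem_centralizer_singleton_iff] at h1
    exact h1

end Cfsg.Agent.Lib.Helper45.PSpAut
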