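/-
helper45: automorphisms of `PSp_2m(F)` preserve transvection images, characteristic two, `m ≥ 3`.
-/
import Cfsg.Agent.Lib.Helper45.PSpAut.Even2

set_option autoImplicit false

namespace Cfsg.Agent.Lib.Helper45.PSpAut

open Matrix Cfsg.Agent.Lib.Helper13 Cfsg.Agent.Lib.Helper45.FTPG Cfsg.Agent.Lib.Helper45.PSLAut
open scoped Pointwise

variable {m : ℕ} {F : Type*} [Field F]

/-- **Automorphisms of `PSp_2m(F)` preserve transvection images** (characteristic two, `m ≥ 3`). -/
theorem autPresT_even [Fintype F] [CharP F 2] (hm : 3 ≤ m) : AutPresT m F := by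
  have hm2 : 2 ≤ m := by omega
  obtain ⟨P, hUP, hPt⟩ := exists_sylow_even (F := F) hm2
  set i₀ : Fin m := ⟨0, by omega⟩ with hi₀
  set i₁ : Fin m := ⟨1, by omega⟩ with hi₁
  have h01 : i₀ ≠ i₁ := by
    intro h
    have := congrArg Fin.val h
    simp [hi₀, hi₁] at this
  set t₀ : Cfsg.PSp m F := tbar (eL i₀) 1 with ht₀
  have ht₀P : t₀ ∈ P := hUP (Subgroup.mem_map_of_mem _ (tvElt_mem_UUsp (inE_eL i₀) 1))
  have key : ∀ β : MulAut (Cfsg.PSp m F), IsT (β t₀) := by
    intro β
    obtain ⟨g, hg⟩ := MulAction.exists_smul_eq (Cfsg.PSp m F) (β • P) P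
    have hg' : MulAut.conj g • (β • (P : Subgroup (Cfsg.PSp m F))) = P := by
      have := congrArg (fun Q : Sylow 2 (Cfsg.PSp m F) => (Q : Subgroup (Cfsg.PSp m F))) hg
      simpa [Sylow.coe_subgroup_smul, Sylow.pointwise_smul_def] using this
    set γ : MulAut (Cfsg.PSp m F) := MulAut.conj g * β with hγ
    have hγmem : ∀ u ∈ P, γ u ∈ P := by
      intro u hu
      have h1 : γ u ∈ MulAut.conj g • (β • (P : Subgroup (Cfsg.PSp m F))) :=
        Subgroup.smul_mem_pointwise_smul _ _ _ (Subgroup.smul_mem_pointwise_smul _ _ _ hu)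
      rw [hg'] at h1
      exact h1
    have hγsurj : ∀ u' ∈ P, ∃ u ∈ P, γ u = u' := by
      intro u' hu'
      have h1 : u' ∈ MulAut.conj g • (β • (P : Subgroup (Cfsg.PSp m F))) := by
        rw [hg']
        exact hu'
      rw [Subgroup.mem_pointwise_smul_iff_inv_smul_mem,
        Subgroup.mem_pointwise_smul_iff_inv_smul_mem] at h1
      refine ⟨_, h1, ?_⟩
      simp only [hγ, MulAut.smul_def, MulAut.mul_apply, MulAut.apply_inv_self]
    -- `γ t₀` is central in `P`
    have hzP : γ t₀ ∈ P := hγmem _ ht₀P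
    have hzcomm : ∀ y ∈ P, γ t₀ * y = y * γ t₀ := by
      intro u' hu'
      obtain ⟨u, hu, rfl⟩ := hγsurj u' hu'
      rw [← map_mul, ← map_mul, hPt u hu]
    obtain ⟨z₀, hz₀⟩ := QuotientGroup.mk_surjective (γ t₀)
    have hcomm' : ∀ u ∈ UUsp m F, z₀ * u = u * z₀ := by
      intro u hu
      obtain ⟨k, hk⟩ := (isPGroup_UUsp (m := m) (F := F) 2) ⟨u, hu⟩
      have hk' : u ^ (2 ^ k) = 1 := by
        have := congrArg Subtype.val hk
        simpa using this
      apply comm_of_mk_comm (by omega) 2 hk'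
      rw [hz₀]
      exact hzcomm _ (hUP (Subgroup.mem_map_of_mem _ hu))
    obtain ⟨z', hz'Q, hz'mk, hz'comm⟩ := exists_QQ_rep hm2
      (fun v hv => hcomm' _ (tvElt_mem_UUsp hv 1))
    obtain ⟨β', b, hR⟩ := QQ_centralizer_gen hm2 hz'Q
      (fun i j hij => hz'comm _ (hcomm' _ (aij_mem hij)))
    have hz'γ : (QuotientGroup.mk z' : Cfsg.PSp m F) = γ t₀ := by rw [hz'mk, hz₀]
    by_cases hb : b = 0
    · -- a transvection
      rw [hb] at hR
      have hz't : z' = tvElt (eL i₀) β' := hR.eq_tvElt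
      have hβ'0 : β' ≠ 0 := by
        rintro rfl
        rw [tvElt_zero] at hz't
        rw [hz't] at hz'γ
        have h1 : t₀ = 1 := by
          apply γ.injective
          rw [← hz'γ, map_one]
          rfl
        exact tbar_ne_one hm2 (eL_ne_zero i₀) one_ne_zero h1
      have hβ : β t₀ = (MulAut.conj g)⁻¹ (tbar (eL i₀) β') := by
        have h1 : tbar (eL i₀) β' = γ t₀ := by
          rw [← hz'γ, hz't]
          rfl
        rw [h1, hγ, MulAut.mul_apply, ← MulAut.mul_apply, inv_mul_cancel, MulAut.one_apply]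
      rw [hβ, ← map_inv]
      obtain ⟨s, rfl⟩ := QuotientGroup.mk_surjective g
      rw [← QuotientGroup.mk_inv, MulAut.conj_apply, conj_tbar]
      exact ⟨_, β', sp_mulVec_ne_zero _ (eL_ne_zero i₀), hβ'0, rfl⟩
    · -- impossible by centraliser orders
      exfalso
      have h1 := card_centralizer_lt hm h01 hR hb (eL_ne_zero (F := F) i₀)
      have h2 : Nat.card (Subgroup.centralizer ({γ t₀} : Set (Cfsg.PSp m F))) =
          Nat.card (Subgroup.centralizer ({t₀} : Set (Cfsg.PSp m F))) :=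
        card_centralizer_of_bijective γ.toMonoidHom γ.bijective t₀
      have h3 : Nat.card (Subgroup.centralizer ({t₀} : Set (Cfsg.PSp m F))) =
          Nat.card (Subgroup.centralizer
            ({tvElt (eL i₀) (1 : F)} : Set (Matrix.symplecticGroup (Fin m) F))) :=
        card_centralizer_of_bijective _ (mk_bijective_char_two (by omega)) _
      have h4 : Nat.card (Subgroup.centralizer ({γ t₀} : Set (Cfsg.PSp m F))) =
          Nat.card (Subgroup.centralizer ({z'} : Set (Matrix.symplecticGroup (Fin m) F))) := by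
        rw [← hz'γ]
        exact card_centralizer_of_bijective _ (mk_bijective_char_two (by omega)) _
      rw [← h4, ← h3, h2] at h1
      exact lt_irrefl _ h1
  intro β x hx
  obtain ⟨v, c, hv, hc, rfl⟩ := hx
  obtain ⟨δ, hδ⟩ := exists_aut_map_tbar i₀ hv hc (one_ne_zero (α := F))
  rw [← hδ, ← MulAut.mul_apply]
  exact key _

/-- **Automorphisms of `PSp_2m(F)` preserve transvection images**, `m ≥ 2`, `(m, p) ≠ (2, 2)`. -/
theorem autPresT [Fintype F] (p : ℕ) [Fact p.Prime] [CharP F p] (hm : 2 ≤ m)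
    (h4 : m = 2 → p ≠ 2) : AutPresT m F := by
  by_cases hp : p = 2
  · subst hp
    have hm3 : 3 ≤ m := by
      by_contra h
      have : m = 2 := by omega
      exact h4 this rfl
    exact autPresT_even hm3
  · exact autPresT_odd hm p hp

end Cfsg.Agent.Lib.Helper45.PSpAut
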