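/-
helper45: a linear map of the standard symplectic space which preserves perpendicularity in both
directions is a similitude.
-/
import Cfsg.Agent.Lib.Helper45.PSpAut.Geom
import Cfsg.Prelude.Def_LieTypeDatum

set_option autoImplicit false

namespace Cfsg.Agent.Lib.Helper45.PSpAut

open Matrix Cfsg.Agent.Lib.Helper13 Cfsg.Agent.Lib.Helper45.FTPG

variable {m : ℕ} {F : Type*} [Field F]

section

variable {G : Matrix (Fin m ⊕ Fin m) (Fin m ⊕ Fin m) F}
  (h : ∀ x y : Fin m ⊕ Fin m → F, Cfsg.sympForm m F x y = 0 ↔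
    Cfsg.sympForm m F (G *ᵥ x) (G *ᵥ y) = 0)

include h

theorem simil_right {x a : Fin m ⊕ Fin m → F} (ha : Cfsg.sympForm m F x a = 1)
    (y : Fin m ⊕ Fin m → F) :
    Cfsg.sympForm m F (G *ᵥ x) (G *ᵥ y) =
      Cfsg.sympForm m F x y * Cfsg.sympForm m F (G *ᵥ x) (G *ᵥ a) := by
  have h1 : Cfsg.sympForm m F x (y - Cfsg.sympForm m F x y • a) = 0 := by
    rw [sympForm_sub_right, sympForm_smul_right, ha, mul_one, sub_self]
  have h2 := (h _ _).mp h1
  rw [Matrix.mulVec_sub, Matrix.mulVec_smul, sympForm_sub_right, sympForm_smul_right] at h2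
  linear_combination h2

theorem simil_left {y b : Fin m ⊕ Fin m → F} (hb : Cfsg.sympForm m F b y = 1)
    (x : Fin m ⊕ Fin m → F) :
    Cfsg.sympForm m F (G *ᵥ x) (G *ᵥ y) =
      Cfsg.sympForm m F x y * Cfsg.sympForm m F (G *ᵥ b) (G *ᵥ y) := by
  have h1 : Cfsg.sympForm m F (x - Cfsg.sympForm m F x y • b) y = 0 := by
    rw [sympForm_sub_left, sympForm_smul_left, hb, mul_one, sub_self]
  have h2 := (h _ _).mp h1
  rw [Matrix.mulVec_sub, Matrix.mulVec_smul, sympForm_sub_left, sympForm_smul_left] at h2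
  linear_combination h2

theorem simil_const {x x' a a' : Fin m ⊕ Fin m → F} (ha : Cfsg.sympForm m F x a = 1)
    (ha' : Cfsg.sympForm m F x' a' = 1) :
    Cfsg.sympForm m F (G *ᵥ x) (G *ᵥ a) = Cfsg.sympForm m F (G *ᵥ x') (G *ᵥ a') := by
  have hx : x ≠ 0 := by
    rintro rfl
    rw [sympForm_zero_left] at ha
    exact zero_ne_one ha
  have hx' : x' ≠ 0 := by
    rintro rfl
    rw [sympForm_zero_left] at ha'
    exact zero_ne_one ha'
  obtain ⟨y, hy, hy'⟩ := exists_form_ne_zero_both hx hx'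
  have hy0 : y ≠ 0 := by
    rintro rfl
    rw [sympForm_zero_left] at hy
    exact hy rfl
  obtain ⟨b, hb⟩ := exists_form_eq_one hy0
  have hxy : Cfsg.sympForm m F x y ≠ 0 := by
    rw [sympForm_swap]
    exact neg_ne_zero.mpr hy
  have hxy' : Cfsg.sympForm m F x' y ≠ 0 := by
    rw [sympForm_swap]
    exact neg_ne_zero.mpr hy'
  have e1 := simil_right h ha y
  have e2 := simil_left h hb x
  have e3 := simil_right h ha' y
  have e4 := simil_left h hb x'
  have k1 : Cfsg.sympForm m F (G *ᵥ x) (G *ᵥ a) = Cfsg.sympForm m F (G *ᵥ b) (G *ᵥ y) := by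
    apply mul_left_cancel₀ hxy
    rw [← e1, ← e2]
  have k2 : Cfsg.sympForm m F (G *ᵥ x') (G *ᵥ a') = Cfsg.sympForm m F (G *ᵥ b) (G *ᵥ y) := by
    apply mul_left_cancel₀ hxy'
    rw [← e3, ← e4]
  rw [k1, k2]

/-- a perpendicularity-preserving linear map is a similitude -/
theorem exists_mult_of_perp_iff (hm : 1 ≤ m) :
    ∃ c : F, c ≠ 0 ∧ ∀ x y : Fin m ⊕ Fin m → F,
      Cfsg.sympForm m F (G *ᵥ x) (G *ᵥ y) = c * Cfsg.sympForm m F x y := by
  set e₀ : Fin m ⊕ Fin m → F := Pi.single (Sum.inl ⟨0, by omega⟩) 1 with he₀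
  have he₀0 : e₀ ≠ 0 := by
    intro h0
    have := congrFun h0 (Sum.inl ⟨0, by omega⟩)
    rw [he₀, Pi.single_eq_same] at this
    exact one_ne_zero this
  obtain ⟨a₀', ha₀'⟩ := exists_form_eq_one he₀0
  have ha₀ : Cfsg.sympForm m F e₀ (-a₀') = 1 := by
    rw [sympForm_neg_right, sympForm_swap, ha₀', neg_neg]
  refine ⟨Cfsg.sympForm m F (G *ᵥ e₀) (G *ᵥ (-a₀')), ?_, ?_⟩
  · intro h0
    have h1 := (h e₀ (-a₀')).mpr h0
    rw [ha₀] at h1
    exact one_ne_zero h1
  · intro x y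
    by_cases hx : x = 0
    · rw [hx, Matrix.mulVec_zero, sympForm_zero_left, sympForm_zero_left, mul_zero]
    · obtain ⟨a', ha'⟩ := exists_form_eq_one hx
      have ha : Cfsg.sympForm m F x (-a') = 1 := by
        rw [sympForm_neg_right, sympForm_swap, ha', neg_neg]
      rw [simil_right h ha y, simil_const h ha ha₀, mul_comm]

/-- a perpendicularity-preserving linear map is a conformal symplectic matrix -/
theorem exists_GSp_of_perp_iff (hm : 1 ≤ m) :
    ∃ (g : GL (Fin m ⊕ Fin m) F) (μ : F), g ∈ Cfsg.GSp m F ∧ g.1 = G ∧ μ ≠ 0 ∧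
      ∀ x y : Fin m ⊕ Fin m → F,
        Cfsg.sympForm m F (g.1 *ᵥ x) (g.1 *ᵥ y) = μ * Cfsg.sympForm m F x y := by
  obtain ⟨c, hc, hG⟩ := exists_mult_of_perp_iff h hm
  have hinj : Function.Injective G.mulVec := by
    intro x y hxy
    have h1 : G *ᵥ (x - y) = 0 := by
      rw [Matrix.mulVec_sub]
      exact sub_eq_zero.mpr hxy
    have h2 : x - y = 0 := by
      apply sympForm_left_nondeg
      intro w
      have h3 := hG (x - y) w
      rw [h1, sympForm_zero_left] at h3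
      exact (mul_eq_zero.mp h3.symm).resolve_left hc
    exact sub_eq_zero.mp h2
  have hunit : IsUnit G := Matrix.mulVec_injective_iff_isUnit.mp hinj
  refine ⟨hunit.unit, c, ⟨Units.mk0 c hc, fun u v => ?_⟩, rfl, hc, fun x y => ?_⟩
  · exact hG u v
  · exact hG x y

end

end Cfsg.Agent.Lib.Helper45.PSpAut
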