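/-
helper45: if every automorphism of `PSp_2m(F)` (`F` finite, `m ≥ 2`) preserves the set of
transvection images, then every automorphism is induced by a semilinear conformal symplectic map.
-/
import Cfsg.Agent.Lib.Helper45.PSpAut.Points
import Cfsg.Agent.Lib.Helper45.PSpAut.Induced
import Cfsg.Agent.Lib.Helper45.PSpAut.Simil
import Cfsg.Agent.Lib.Helper45.FTPG.Main

set_option autoImplicit false

namespace Cfsg.Agent.Lib.Helper45.PSpAut

open Matrix Cfsg.Agent.Lib.Helper13 Cfsg.Agent.Lib.Helper45.FTPG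

variable {m : ℕ} {F : Type*} [Field F]

/-- an additive `σ`-semilinear map of `F^n` is `x ↦ G σ(x)` for a matrix `G` -/
theorem semilinear_eq_mulVec {ι : Type*} [Fintype ι] [DecidableEq ι] (σ : F →+* F) (f : (ι → F) → (ι → F))
    (hadd : ∀ x y, f (x + y) = f x + f y) (hsmul : ∀ (a : F) x, f (a • x) = σ a • f x)
    (x : ι → F) :
    f x = (Matrix.of fun i j => f (Pi.single j 1) i) *ᵥ (fun i => σ (x i)) := by
  let fA : (ι → F) →+ (ι → F) := AddMonoidHom.mk' f hadd
  have h1 : x = ∑ j, x j • (Pi.single j (1 : F) : ι → F) := by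
    ext i
    rw [Finset.sum_apply]
    simp [Pi.single_apply]
  have h2 : f x = ∑ j, σ (x j) • f (Pi.single j 1) := by
    conv_lhs => rw [h1]
    change fA _ = _
    rw [map_sum]
    apply Finset.sum_congr rfl
    intro j _
    exact hsmul _ _
  rw [h2]
  ext i
  rw [Finset.sum_apply, Matrix.mulVec, dotProduct]
  apply Finset.sum_congr rfl
  intro j _
  rw [Pi.smul_apply, smul_eq_mul, Matrix.of_apply, mul_comm]

/-- an automorphism fixing every transvection group is trivial -/
theorem eq_one_of_fix_tbar (hm : 2 ≤ m) (β : MulAut (Cfsg.PSp m F))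
    (h : ∀ (v : Fin m ⊕ Fin m → F) (c : F), v ≠ 0 → c ≠ 0 → ∃ c' : F, c' ≠ 0 ∧
      β (tbar v c) = tbar v c') : β = 1 := by
  ext x
  induction x using QuotientGroup.induction_on with
  | H s =>
    obtain ⟨s₂, hs₂⟩ := QuotientGroup.mk_surjective (β (QuotientGroup.mk s))
    rw [MulAut.one_apply, ← hs₂]
    -- `s⁻¹ s₂` fixes every point
    have key : (QuotientGroup.mk (s⁻¹ * s₂) : Cfsg.PSp m F) = 1 := by
      apply mk_eq_one_of_fix_points (by omega)
      intro v hv hI
      obtain ⟨c₁, hc₁, h1⟩ := h v 1 hv one_ne_zero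
      have hsv : s.1 *ᵥ v ≠ 0 := sp_mulVec_ne_zero s hv
      obtain ⟨c₂, hc₂, h2⟩ := h (s.1 *ᵥ v) 1 hsv one_ne_zero
      have h3 := congrArg β (conj_tbar s v (1 : F))
      rw [map_mul, map_mul, map_inv, h1, h2, ← hs₂, conj_tbar] at h3
      have h4 := par_of_tbar_eq hm (sp_mulVec_ne_zero s₂ hv) hsv hc₁ hc₂ h3
      obtain ⟨k, hk, h5⟩ := h4
      have h6 : (s⁻¹ * s₂).1 *ᵥ v = k⁻¹ • v := by
        rw [sp_mul_mulVec]
        have : s₂.1 *ᵥ v = k⁻¹ • s.1 *ᵥ v := by
          rw [h5, smul_smul, inv_mul_cancel₀ hk, one_smul]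
        rw [this, Matrix.mulVec_smul, sp_inv_mulVec_mulVec]
      rw [h6] at hI
      exact not_I2_smul v k⁻¹ hI
    rw [QuotientGroup.mk_mul, QuotientGroup.mk_inv, inv_mul_eq_one] at key
    exact key.symm

/-- **Main reduction**: if automorphisms preserve transvection images, they are all induced by
semilinear conformal symplectic maps. -/
theorem exists_induced [Finite F] (hm : 2 ≤ m) (hT : AutPresT m F) (β : MulAut (Cfsg.PSp m F)) :
    ∃ (g : GL (Fin m ⊕ Fin m) F) (σ : F ≃+* F), g ∈ Cfsg.GSp m F ∧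
      Cfsg.IsInducedBySemilinearPSp g σ β := by
  have hcoll := isColl_pmap hm hT β
  obtain ⟨σ₀, f, hadd, hsmul, hpar⟩ := exists_semilinear hcoll (exists_not_sp2 hm)
  -- the field automorphism
  have hσbij : Function.Bijective σ₀ :=
    ⟨σ₀.injective, Finite.surjective_of_injective σ₀.injective⟩
  set σ : F ≃+* F := RingEquiv.ofBijective σ₀ hσbij with hσ
  have hσ₀ : ∀ a, σ a = σ₀ a := fun a => rfl
  -- the matrix
  set G : Matrix (Fin m ⊕ Fin m) (Fin m ⊕ Fin m) F := Matrix.of fun i j => f (Pi.single j 1) i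
    with hG
  have hfG : ∀ x, f x = G *ᵥ (fun i => σ (x i)) := fun x =>
    semilinear_eq_mulVec σ₀ f hadd hsmul x
  have hf0 : ∀ x, x ≠ 0 → f x ≠ 0 := by
    intro x hx
    exact ((hpar x hx).symm).ne_zero (pmap_ne_zero hT β hx)
  -- `G` preserves perpendicularity
  have hperp : ∀ x y : Fin m ⊕ Fin m → F, Cfsg.sympForm m F x y = 0 ↔
      Cfsg.sympForm m F (G *ᵥ x) (G *ᵥ y) = 0 := by
    intro x y
    set x' : Fin m ⊕ Fin m → F := fun i => σ.symm (x i) with hx'
    set y' : Fin m ⊕ Fin m → F := fun i => σ.symm (y i) with hy'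
    have hxx' : x = fun i => σ (x' i) := by
      ext i
      simp [hx']
    have hyy' : y = fun i => σ (y' i) := by
      ext i
      simp [hy']
    have h1 : Cfsg.sympForm m F x y = 0 ↔ Cfsg.sympForm m F x' y' = 0 := by
      rw [hxx', hyy', sympForm_comp]
      simp
    have hGx : G *ᵥ x = f x' := by rw [hfG, ← hxx']
    have hGy : G *ᵥ y = f y' := by rw [hfG, ← hyy']
    rw [h1, hGx, hGy]
    have hf00 : f 0 = 0 := by
      have := hadd 0 0
      rw [add_zero] at this
      exact left_eq_add.mp this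
    by_cases hx0 : x' = 0
    · rw [hx0, hf00, sympForm_zero_left, sympForm_zero_left]
    by_cases hy0 : y' = 0
    · rw [hy0, hf00, sympForm_zero_right, sympForm_zero_right]
    rw [pmap_perp hm hT β hx0 hy0, form_eq_zero_of_par_left (hpar x' hx0),
      form_eq_zero_of_par_right (hpar y' hy0)]
  obtain ⟨g, μ, hg, hgG, hμ0, hμ⟩ := exists_GSp_of_perp_iff hperp (by omega)
  refine ⟨g, σ, hg, ?_⟩
  -- compare `β` with the induced automorphism
  set γ : MulAut (Cfsg.PSp m F) := indAut g hg σ with hγ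
  have hfix : γ⁻¹ * β = 1 := by
    apply eq_one_of_fix_tbar hm
    intro v c hv hc
    obtain ⟨d, hd, h1⟩ := pmap_tbar hm hT β hv hc
    obtain ⟨d', hd', h2⟩ := tbar_of_par (hpar v hv) hd
    -- `γ` maps `tbar v c₀` to `tbar (f v) d'`
    set c₀ : F := σ.symm (d' * μ) with hc₀
    have hc₀0 : c₀ ≠ 0 := by
      rw [hc₀]
      simp [hd', hμ0]
    have h3 : γ (tbar v c₀) = tbar (f v) d' := by
      rw [hγ, indAut_tbar g hg σ hμ0 hμ, hgG, ← hfG, hc₀]
      congr 1
      simp only [RingEquiv.apply_symm_apply]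
      field_simp
    refine ⟨c₀, hc₀0, ?_⟩
    rw [MulAut.mul_apply, h1, h2, ← h3]
    simp
  have hβγ : β = γ := by
    have := congrArg (fun δ => γ * δ) hfix
    simpa using this
  rw [hβγ]
  exact isInduced_indAut g hg σ

theorem gammaPSp_eq_top_of_autPresT [Finite F] (hm : 2 ≤ m) (hT : AutPresT m F) :
    Cfsg.gammaPSp m F = ⊤ := by
  rw [eq_top_iff]
  intro β _
  obtain ⟨g, σ, hg, hβ⟩ := exists_induced hm hT β
  exact Subgroup.subset_closure ⟨g, σ, hg, hβ⟩

end Cfsg.Agent.Lib.Helper45.PSpAut
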